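import Cfsg.Agent.Lib.PPrimeAbelian.Setup
import Cfsg.Agent.Lib.Transfer.Frobenius
import Cfsg.Agent.Lib.Transfer.Sylow

/-!
# Groups whose mixed proper subgroups have order divisible by a fixed large prime

`p` divides the order of each proper subgroup that is neither a `q`-group nor of order prime to `q`,
and `p` is at least the `q`-part of the order less one.
-/

set_option autoImplicit false
set_option linter.style.haveILetI false
set_option linter.unusedSectionVars false

namespace CfsgLib.MixedPrimes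

variable {G : Type*} [Group G] [Finite G] {p q : ℕ}

/-- The hypothesis. -/
structure Mix (p q : ℕ) (G : Type*) [Group G] : Prop where
  pp : p.Prime
  qq : q.Prime
  ne : p ≠ q
  odd : p ≠ 2
  pG : p ∣ Nat.card G
  qG : q ∣ Nat.card G
  mix : ∀ H : Subgroup G, H ≠ ⊤ → ¬ IsPGroup q H → q ∣ Nat.card H → p ∣ Nat.card H
  large : q ^ (Nat.card G).factorization q - 1 < p ∨
      (p = q ^ (Nat.card G).factorization q - 1 ∧ ∀ P : Sylow p G, IsMulCommutative P)

theorem Mix.q_pow_mul (h : Mix p q G) {H : Subgroup G} (hq : q ∣ Nat.card H) (hH : ¬ p ∣ Nat.card H) :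
    IsPGroup q H := by
  by_contra hn
  exact hH (h.mix H (fun e => hH (by rw [e, Subgroup.card_top]; exact h.pG)) hn hq)

/-- No two subgroups of order prime to `p` form a mixed product. -/
theorem Mix.no_mixed (h : Mix p q G) {A B : Subgroup G} (hB : B ≤ Subgroup.normalizer (A : Set G))
    (hA : ¬ p ∣ Nat.card A) (hBc : ¬ p ∣ Nat.card B) (hq : q ∣ Nat.card A ∨ q ∣ Nat.card B)
    {x : G} (hx : x ∈ A ⊔ B) (hx1 : x ≠ 1) (hxq : ¬ q ∣ orderOf x) : False := by
  haveI := Fact.mk h.pp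
  have hc : ¬ p ∣ Nat.card ↥(A ⊔ B) := h.pp.coprime_iff_not_dvd.mp
    (PPrimeAbelian.coprime_card_sup hB (h.pp.coprime_iff_not_dvd.mpr hA).symm
      (h.pp.coprime_iff_not_dvd.mpr hBc).symm).symm
  have hd : q ∣ Nat.card ↥(A ⊔ B) := hq.elim (fun e => e.trans (Subgroup.card_dvd_of_le le_sup_left))
    (fun e => e.trans (Subgroup.card_dvd_of_le le_sup_right))
  haveI := Fact.mk h.qq
  obtain ⟨k, hk⟩ := IsPGroup.iff_orderOf.mp (h.q_pow_mul hd hc) ⟨x, hx⟩
  rw [← Subgroup.orderOf_coe] at hk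
  rcases k with _ | k
  · exact hx1 (orderOf_eq_one_iff.mp (by rw [hk, pow_zero]))
  · exact hxq (hk ▸ dvd_pow_self q (Nat.succ_ne_zero k))

theorem Mix.not_dvd_of_pgroup (h : Mix p q G) {X : Subgroup G} (hX : IsPGroup q X) :
    ¬ p ∣ Nat.card X := by
  haveI := Fact.mk h.qq
  obtain ⟨k, hk⟩ := IsPGroup.iff_card.mp hX
  rw [hk]
  exact fun hd => h.ne ((Nat.prime_dvd_prime_iff_eq h.pp h.qq).mp (h.pp.dvd_of_dvd_pow hd))

/-- An element of order prime to `p` and `q` normalizes no nontrivial `q`-subgroup. -/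
theorem Mix.eq_one_of_normalizes (h : Mix p q G) {X : Subgroup G} (hX : IsPGroup q X) (hX1 : X ≠ ⊥)
    {x : G} (hx : x ∈ Subgroup.normalizer (X : Set G)) (hxp : ¬ p ∣ orderOf x)
    (hxq : ¬ q ∣ orderOf x) : x = 1 := by
  by_contra hx1
  refine h.no_mixed (A := X) (B := Subgroup.zpowers x) (Subgroup.zpowers_le.mpr hx)
    (h.not_dvd_of_pgroup hX) (by rwa [Nat.card_zpowers]) (Or.inl ?_)
    (Subgroup.mem_sup_right (Subgroup.mem_zpowers x)) hx1 hxq
  haveI := Fact.mk h.qq
  obtain ⟨k, hk⟩ := IsPGroup.iff_card.mp hX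
  rw [hk]
  exact dvd_pow_self q fun h0 => hX1 (Subgroup.card_eq_one.mp (by rw [hk, h0, pow_zero]))

/-- No commuting pair of a nontrivial `q`-element and a nontrivial element of other prime order. -/
theorem Mix.not_commute (h : Mix p q G) {x z : G} (hz : orderOf z = q) (hxz : x * z = z * x)
    (hxp : ¬ p ∣ orderOf x) (hxq : ¬ q ∣ orderOf x) : x = 1 := by
  haveI := Fact.mk h.qq
  refine h.eq_one_of_normalizes (X := Subgroup.zpowers z)
    (Transfer.isPGroup_zpowers ⟨1, by rw [hz, pow_one]⟩) (fun e => ?_)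
    (by rw [← Transfer.map_conj_eq_self_iff, MonoidHom.map_zpowers]; simp [hxz]) hxp hxq
  rw [Subgroup.zpowers_eq_bot] at e
  rw [e, orderOf_one] at hz
  exact h.qq.ne_one hz.symm

/-- A `p`-element normalizing a `q`-subgroup without centralizing it is transitive on it, and the
bound on `p` is attained. -/
theorem Mix.action (h : Mix p q G) {X : Subgroup G} (hX : IsPGroup q X) {y : G}
    (hy : y ∈ Subgroup.normalizer (X : Set G)) (hyk : ∃ k : ℕ, orderOf y = p ^ k)
    (hne : ∃ x ∈ X, y * x * y⁻¹ ≠ x) :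
    q = 2 ∧ p = 2 ^ (Nat.card G).factorization 2 - 1 ∧
      Nat.card X = 2 ^ (Nat.card G).factorization 2 ∧ (∀ P : Sylow p G, IsMulCommutative P) ∧
      (∀ x ∈ X, x * x = 1) ∧ (∀ x ∈ X, y * x * y⁻¹ = x → x = 1) ∧
      ∀ x ∈ X, x ≠ 1 → ∀ x' ∈ X, x' ≠ 1 → IsConj x x' := by
  classical
  haveI := Fact.mk h.pp
  haveI := Fact.mk h.qq
  letI : MulAction (Subgroup.zpowers y) X :=
    { smul := fun g v => ⟨(g : G) * v * (g : G)⁻¹,
        (Subgroup.mem_normalizer_iff.mp (Subgroup.zpowers_le.mpr hy g.2) _).mp v.2⟩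
      one_smul := fun v => Subtype.ext (by
        show ((1 : Subgroup.zpowers y) : G) * v * ((1 : Subgroup.zpowers y) : G)⁻¹ = v
        simp)
      mul_smul := fun g g' v => Subtype.ext (by
        show ((g * g' : Subgroup.zpowers y) : G) * v * ((g * g' : Subgroup.zpowers y) : G)⁻¹ =
          (g : G) * ((g' : G) * v * (g' : G)⁻¹) * (g : G)⁻¹
        rw [Subgroup.coe_mul]; group) }
  set C : Subgroup G := X ⊓ Subgroup.centralizer ({y} : Set G) with hC
  have hmemC : ∀ x : X, (x : G) ∈ C ↔ y * (x : G) * y⁻¹ = x := fun x => by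
    rw [hC, Subgroup.mem_inf, Subgroup.mem_centralizer_singleton_iff, mul_inv_eq_iff_eq_mul]
    exact ⟨fun e => e.2.symm, fun e => ⟨x.2, e.symm⟩⟩
  have hY := Transfer.isPGroup_zpowers (p := p) hyk
  have hmod : Nat.card X ≡ Nat.card C [MOD p] := by
    have h1 := hY.card_modEq_card_fixedPoints X
    have e : Nat.card (MulAction.fixedPoints (Subgroup.zpowers y) X) = Nat.card C := by
      refine Nat.card_congr
        { toFun := fun v => ⟨(v.1 : G), (hmemC v.1).mpr
            (congrArg Subtype.val (v.2 ⟨y, Subgroup.mem_zpowers y⟩))⟩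
          invFun := fun v => ⟨⟨(v : G), v.2.1⟩, fun g => Subtype.ext (by
            show (g : G) * v * (g : G)⁻¹ = v
            obtain ⟨j, hj⟩ := Subgroup.mem_zpowers_iff.mp g.2
            have hc : Commute (g : G) v := by
              rw [← hj]
              exact (Commute.zpow_left
                (show Commute y (v : G) from (Subgroup.mem_centralizer_singleton_iff.mp v.2.2).symm) j)
            rw [hc.eq, mul_inv_cancel_right])⟩
          left_inv := fun v => Subtype.ext (Subtype.ext rfl)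
          right_inv := fun v => Subtype.ext rfl }
    rwa [e] at h1
  have hCX : C ≤ X := inf_le_left
  have hlt : Nat.card C < Nat.card X := by
    refine lt_of_le_of_ne (Subgroup.card_le_of_le hCX) fun e => ?_
    obtain ⟨x, hx, hx'⟩ := hne
    exact hx' ((hmemC ⟨x, hx⟩).mp ((Subgroup.eq_of_le_of_card_ge hCX e.ge).symm ▸ hx))
  have hdiff : p ∣ Nat.card X - Nat.card C := (Nat.modEq_iff_dvd' hlt.le).mp hmod.symm
  have hXa : Nat.card X ≤ q ^ (Nat.card G).factorization q := by
    obtain ⟨k, hk⟩ := IsPGroup.iff_card.mp hX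
    rw [hk]
    refine Nat.pow_le_pow_right h.qq.pos
      ((h.qq.pow_dvd_iff_le_factorization Nat.card_pos.ne').mp ?_)
    rw [← hk]
    exact X.card_subgroup_dvd_card
  have hCpos : 0 < Nat.card C := Nat.card_pos
  have hple := Nat.le_of_dvd (by omega) hdiff
  rcases h.large with hl | ⟨he, hab⟩
  · omega
  have hC1 : Nat.card C = 1 := by omega
  have hXc : Nat.card X = q ^ (Nat.card G).factorization q := by omega
  have hq2 : q = 2 := by
    rcases h.qq.eq_two_or_odd' with e | e
    · exact e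
    · exfalso
      have hodd : Odd (q ^ (Nat.card G).factorization q) := e.pow
      have hp := h.pp.odd_of_ne_two h.odd
      obtain ⟨i, hi⟩ := hodd
      obtain ⟨j, hj⟩ := hp
      omega
  subst hq2
  have hfix : ∀ x ∈ X, y * x * y⁻¹ = x → x = 1 := fun x hx e => by
    have := (Subgroup.card_eq_one.mp hC1) ▸ (hmemC ⟨x, hx⟩).mpr e
    exact Subgroup.mem_bot.mp this
  have hXp : Nat.card X = p + 1 := by omega
  -- transitivity
  have htr : ∀ x ∈ X, x ≠ 1 → ∀ x' ∈ X, x' ≠ 1 → IsConj x x' := by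
    intro x hx hx1 x' hx' hx'1
    set O := MulAction.orbit (Subgroup.zpowers y) (⟨x, hx⟩ : X) with hO
    obtain ⟨k, hk⟩ := hY.card_orbit (⟨x, hx⟩ : X)
    have hk0 : k ≠ 0 := by
      intro h0
      rw [h0, pow_zero] at hk
      refine hx1 (hfix x hx ?_)
      have hsub := (Nat.card_eq_one_iff_unique.mp hk).1
      have := congrArg (fun v : O => ((v : X) : G)) (hsub.elim
        ⟨(⟨y, Subgroup.mem_zpowers y⟩ : Subgroup.zpowers y) • (⟨x, hx⟩ : X), MulAction.mem_orbit _ _⟩
        ⟨_, MulAction.mem_orbit_self _⟩)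
      exact this
    have h1 : (1 : X) ∉ O := by
      rintro ⟨g, hg⟩
      exact hx1 (conj_eq_one_iff.mp (congrArg Subtype.val hg))
    have hsub : O ⊆ {(1 : X)}ᶜ := fun v hv => by
      simpa using fun (e : v = 1) => h1 (e ▸ hv)
    have heq : O = {(1 : X)}ᶜ := by
      refine Set.eq_of_subset_of_ncard_le hsub ?_ (Set.toFinite _)
      rw [Set.ncard_compl, Set.ncard_singleton, hXp, ← Nat.card_coe_set_eq O, hk,
        Nat.add_sub_cancel]
      exact Nat.le_self_pow hk0 p
    obtain ⟨g, hg⟩ : (⟨x', hx'⟩ : X) ∈ O := heq ▸ (by simpa using hx'1)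
    exact isConj_iff.mpr ⟨(g : G), congrArg Subtype.val hg⟩
  refine ⟨rfl, he, hXc, hab, fun x hx => ?_, hfix, htr⟩
  rcases eq_or_ne x 1 with rfl | hx1
  · exact one_mul 1
  have h2 : 2 ∣ Nat.card X := by
    rw [hXp]
    obtain ⟨j, hj⟩ := h.pp.odd_of_ne_two h.odd
    omega
  obtain ⟨v, hv⟩ := exists_prime_orderOf_dvd_card' (G := X) 2 h2
  rw [← Subgroup.orderOf_coe] at hv
  obtain ⟨g, rfl⟩ := isConj_iff.mp (htr v v.2 (fun e => by rw [e, orderOf_one] at hv; omega) x hx hx1)
  have e : (v : G) * v = 1 := by rw [← pow_two, ← hv, pow_orderOf_eq_one]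
  calc g * (v : G) * g⁻¹ * (g * v * g⁻¹) = g * ((v : G) * v) * g⁻¹ := by group
    _ = 1 := by rw [e]; group

/-- Either some `p`-element acts on a `q`-subgroup, or there is no third prime. -/
theorem Mix.primes_of_no_action (h : Mix p q G)
    (hno : ∀ (X : Subgroup G) (y : G), IsPGroup q X → y ∈ Subgroup.normalizer (X : Set G) →
      (∃ k : ℕ, orderOf y = p ^ k) → ∀ x ∈ X, y * x * y⁻¹ = x) :
    ∀ r : ℕ, r.Prime → r ∣ Nat.card G → r = p ∨ r = q := by
  intro r hr hrG
  by_contra hcon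
  push Not at hcon
  haveI := Fact.mk h.qq
  haveI := Fact.mk hr
  have haut : Transfer.PAutomizers q G := by
    intro X hX g hg hgc
    rcases eq_or_ne X ⊥ with rfl | hX1
    · rw [Subgroup.mem_centralizer_iff]
      intro x hx
      rw [SetLike.mem_coe, Subgroup.mem_bot] at hx
      rw [hx, one_mul, mul_one]
    obtain ⟨a, b, hab, ha, hb, hak, hbc⟩ := PPrimeAbelian.exists_split h.pp g
    have hgN : ∀ z ∈ Subgroup.zpowers g, z ∈ Subgroup.normalizer (X : Set G) := fun z hz =>
      Subgroup.zpowers_le.mpr hg hz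
    have hb1 : b = 1 := by
      refine h.eq_one_of_normalizes hX hX1 (hgN b hb) (h.pp.coprime_iff_not_dvd.mp hbc.symm) fun hd => ?_
      obtain ⟨j, rfl⟩ := Subgroup.mem_zpowers_iff.mp hb
      exact h.qq.coprime_iff_not_dvd.mp hgc.symm (hd.trans (orderOf_dvd_of_pow_eq_one (by rw [← zpow_natCast, ← zpow_mul, mul_comm, zpow_mul, zpow_natCast, pow_orderOf_eq_one, one_zpow])))
    refine Subgroup.mem_centralizer_iff.mpr fun x hx => ?_
    have e := hno X a hX (hgN a ha) hak x hx
    rw [mul_inv_eq_iff_eq_mul] at e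
    rw [hab, hb1, mul_one, e]
  obtain ⟨T, M, hM, hc⟩ := Transfer.hasNormalPComplement_of_pAutomizers haut
  haveI := hM
  have hMc := Transfer.coprime_card_of_isComplement' hc
  have hidx : M.index = Nat.card (T : Subgroup G) := hc.symm.index_eq_card
  have hrM : r ∣ Nat.card M := by
    rw [← M.card_mul_index] at hrG
    refine (hr.dvd_mul.mp hrG).resolve_right fun hd => hcon.2 ?_
    rw [hidx, Sylow.card_eq_multiplicity] at hd
    exact (Nat.prime_dvd_prime_iff_eq hr h.qq).mp (hr.dvd_of_dvd_pow hd)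
  obtain ⟨R⟩ := (inferInstance : Nonempty (Sylow r M))
  set R₀ : Subgroup G := (R : Subgroup M).map M.subtype with hR₀
  have hsup : Subgroup.normalizer (R₀ : Set G) ⊔ M = ⊤ := by
    have := Sylow.normalizer_sup_eq_top R
    rwa [← hR₀] at this
  have hq : q ∣ Nat.card ↥(Subgroup.normalizer (R₀ : Set G)) := by
    have hqM : q ∣ M.index := by
      have := h.qG
      rw [← M.card_mul_index] at this
      exact (h.qq.dvd_mul.mp this).resolve_left fun hd =>
        h.qq.coprime_iff_not_dvd.mp hMc.symm hd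
    refine hqM.trans ?_
    rw [← Subgroup.relIndex_top_right, ← hsup, Subgroup.relIndex_sup_right]
    exact Subgroup.relIndex_dvd_card _ _
  obtain ⟨z, hz⟩ := exists_prime_orderOf_dvd_card' (G := ↥(Subgroup.normalizer (R₀ : Set G))) q hq
  rw [← Subgroup.orderOf_coe] at hz
  have hR1 : (R : Subgroup M) ≠ ⊥ := R.ne_bot_of_dvd_card hrM
  obtain ⟨x, hx, hx1⟩ : ∃ x ∈ R₀, x ≠ 1 := by
    obtain ⟨⟨x, hx⟩, hx1⟩ := (R : Subgroup M).ne_bot_iff_exists_ne_one.mp hR1
    exact ⟨(x : G), ⟨x, hx, rfl⟩, fun e => hx1 (Subtype.ext (Subtype.ext e))⟩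
  obtain ⟨j, hj⟩ := IsPGroup.iff_card.mp (R.2.map M.subtype)
  have hdvd : ∀ s : ℕ, s.Prime → s ∣ Nat.card R₀ → s = r := fun s hs hd =>
    (Nat.prime_dvd_prime_iff_eq hs hr).mp (hs.dvd_of_dvd_pow (hj ▸ hd))
  refine h.no_mixed (A := R₀) (B := Subgroup.zpowers (z : G)) (Subgroup.zpowers_le.mpr z.2)
    (fun hd => hcon.1 (hdvd p h.pp hd).symm)
    (by rw [Nat.card_zpowers, hz]; exact fun hd => h.ne ((Nat.prime_dvd_prime_iff_eq h.pp h.qq).mp hd))
    (Or.inr (by rw [Nat.card_zpowers, hz])) (Subgroup.mem_sup_left hx) hx1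
    fun hd => hcon.2 (hdvd q h.qq (hd.trans (R₀.orderOf_dvd_natCard hx))).symm

/-- An element of a prime power order centralizing a Sylow subgroup for that prime lies in it. -/
theorem mem_of_centralizes {r : ℕ} [Fact r.Prime] (P : Sylow r G) {x : G}
    (hx : ∀ z ∈ (P : Subgroup G), z * x = x * z) (hk : ∃ k : ℕ, orderOf x = r ^ k) :
    x ∈ (P : Subgroup G) := by
  have hX : IsPGroup r (Subgroup.zpowers x) := Transfer.isPGroup_zpowers hk
  have h := IsPGroup.to_sup_of_normal_right' hX P.2 (Subgroup.zpowers_le.mpr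
    (Subgroup.centralizer_le_normalizer _ (Subgroup.mem_centralizer_iff.mpr hx)))
  exact (P.3 h le_sup_right).le (Subgroup.mem_sup_left (Subgroup.mem_zpowers x))

end CfsgLib.MixedPrimes
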