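import Cfsg.Agent.Lib.MixedPrimes.Structure
import Cfsg.Agent.Lib.Invol.AICSplit
import Cfsg.Agent.Lib.SL2.Facts
import Cfsg.Agent.Lib.BSW.Main

/-!
# The extremal case leads to a contradiction

Either every involution centralizer is abelian, and the group is `SL(2, 2ᵃ) × A`, or the
Brauer–Suzuki–Wall theorem applies.
-/

set_option autoImplicit false
set_option linter.style.haveILetI false
set_option linter.unusedSectionVars false

namespace CfsgLib.MixedPrimes

open scoped MatrixGroups

/-- In characteristic two an element of `SL(2)` not dividing the split torus is inverted by an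
involution. -/
theorem exists_inverting {F : Type*} [Field F] [Fintype F] [CharP F 2] (x : SL(2, F)) :
    (∃ J : SL(2, F), J * J = 1 ∧ J * x * J = x⁻¹) ∨ x ^ (Fintype.card F - 1) = 1 := by
  obtain ⟨M, hM⟩ := x
  obtain ⟨a, b, c, d, rfl⟩ : ∃ a b c d, M = !![a, b; c, d] := ⟨_, _, _, _, Matrix.eta_fin_two M⟩
  have hneg : ∀ v : F, -v = v := fun v => CharTwo.neg_eq v
  have hxx : ∀ v : F, v + v = 0 := fun v => CharTwo.add_self_eq_zero v
  rw [Matrix.det_fin_two_of] at hM
  by_cases hb : b = 0
  · by_cases hc : c = 0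
    · right
      subst hb hc
      rw [zero_mul, sub_zero] at hM
      have ha : a ≠ 0 := fun h => by simp [h] at hM
      have hd : d ≠ 0 := fun h => by simp [h] at hM
      refine Subtype.ext ((Matrix.SpecialLinearGroup.coe_pow _ _).trans ?_)
      rw [Matrix.SpecialLinearGroup.coe_one]
      have e : !![a, 0; 0, d] = Matrix.diagonal ![a, d] := by
        ext i j; fin_cases i <;> fin_cases j <;> simp
      show !![a, 0; 0, d] ^ _ = _
      rw [e, Matrix.diagonal_pow]
      ext i j
      fin_cases i <;> fin_cases j <;>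
        simp [FiniteField.pow_card_sub_one_eq_one _ ha, FiniteField.pow_card_sub_one_eq_one _ hd]
    · left
      set k := (a + d) / c with hk
      have hkc : k * c = a + d := div_mul_cancel₀ _ hc
      refine ⟨⟨!![1, k; 0, 1], by simp [Matrix.det_fin_two_of]⟩, Subtype.ext ?_, Subtype.ext ?_⟩
      · show !![1, k; 0, 1] * !![1, k; 0, 1] = 1
        rw [Matrix.mul_fin_two, Matrix.one_fin_two]
        simp [hxx]
      · show !![1, k; 0, 1] * !![a, b; c, d] * !![1, k; 0, 1] = Matrix.adjugate !![a, b; c, d]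
        rw [Matrix.mul_fin_two, Matrix.mul_fin_two, Matrix.adjugate_fin_two_of, hneg, hneg]
        ext i j
        fin_cases i <;> fin_cases j <;> simp
        · linear_combination hkc + hxx a
        · linear_combination k * hkc + hxx (k * a) + hxx (k * d)
        · linear_combination hkc + hxx d
  · left
    set k := (a + d) / b with hk
    have hkb : k * b = a + d := div_mul_cancel₀ _ hb
    refine ⟨⟨!![1, 0; k, 1], by simp [Matrix.det_fin_two_of]⟩, Subtype.ext ?_, Subtype.ext ?_⟩
    · show !![1, 0; k, 1] * !![1, 0; k, 1] = 1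
      rw [Matrix.mul_fin_two, Matrix.one_fin_two]
      simp [hxx]
    · show !![1, 0; k, 1] * !![a, b; c, d] * !![1, 0; k, 1] = Matrix.adjugate !![a, b; c, d]
      rw [Matrix.mul_fin_two, Matrix.mul_fin_two, Matrix.adjugate_fin_two_of, hneg, hneg]
      ext i j
      fin_cases i <;> fin_cases j <;> simp
      · linear_combination hkb + hxx a
      · linear_combination k * hkb + hxx (k * a) + hxx (k * d)
      · linear_combination hkb + hxx d

variable {G : Type*} [Group G] [Finite G] {p : ℕ}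

theorem Act.not_normal (h : Act p G) (S : Sylow 2 G) : ¬ (S : Subgroup G).Normal := by
  intro hn
  obtain ⟨r, hr, hrG, hrp, hr2⟩ := h.third
  haveI := Fact.mk hr
  obtain ⟨x, hx⟩ := exists_prime_orderOf_dvd_card' (G := G) r hrG
  have hS1 : (S : Subgroup G) ≠ ⊥ := fun e => by
    have := h.card_sylow S
    rw [e, Subgroup.card_bot] at this
    have := h.mix.pp.two_le
    omega
  refine hr.ne_one ?_
  rw [← hx, h.mix.eq_one_of_normalizes S.2 hS1
    ((Subgroup.normalizer_eq_top_iff.mpr hn).ge (Subgroup.mem_top x)) ?_ ?_, orderOf_one]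
  · rw [hx]; exact fun hd => hrp ((Nat.prime_dvd_prime_iff_eq h.mix.pp hr).mp hd).symm
  · rw [hx]; exact fun hd => hr2 ((Nat.prime_dvd_prime_iff_eq Nat.prime_two hr).mp hd).symm

/-- The abelian case. -/
theorem Act.false_of_abelian (h : Act p G)
    (hA : ∀ (S : Sylow 2 G) (t : G), orderOf t = 2 → t ∈ (S : Subgroup G) → ∀ m : G,
      m * t = t * m → (∃ k : ℕ, orderOf m = p ^ k) → ∀ s ∈ (S : Subgroup G), m * s = s * m) :
    False := by
  haveI := Fact.mk Nat.prime_two
  haveI := Fact.mk h.mix.pp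
  have hab : Invol.AIC.AbInvCent G := by
    intro t a b ht ht1 ha hb
    have ht2 := Invol.orderOf_two_of_mul_self ht ht1
    obtain ⟨D, hD, hDp, hDN, hDS⟩ := h.exists_core ht2
    obtain ⟨S, hS⟩ := (Transfer.isPGroup_zpowers (p := 2) (x := t) ⟨1, by rw [ht2, pow_one]⟩).exists_le_sylow
    have htS := hS (Subgroup.mem_zpowers t)
    obtain ⟨m, hm, s, hs, rfl⟩ := hDS S htS a (Subgroup.mem_centralizer_singleton_iff.mpr ha)
    obtain ⟨m', hm', s', hs', rfl⟩ := hDS S htS b (Subgroup.mem_centralizer_singleton_iff.mpr hb)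
    have hc : ∀ m ∈ D, ∀ s ∈ (S : Subgroup G), Commute m s := fun m hm s hs =>
      hA S t ht2 htS m (Subgroup.mem_centralizer_singleton_iff.mp ((hD m).mp hm).1) ((hD m).mp hm).2 s hs
    have h1 : Commute m m' := h.commute_pgroup hDp hm hm'
    have h2 : Commute s s' := h.commute_sylow S hs hs'
    exact (h1.mul_right (hc m hm s' hs')).mul_left ((hc m' hm' s hs).symm.mul_right h2)
  obtain ⟨S⟩ := (inferInstance : Nonempty (Sylow 2 G))
  have hnc : ¬ IsCyclic (S : Subgroup G) :=
    Coprime.not_isCyclic_of_exponent (fun a ha => by rw [pow_two]; exact h.sq S a ha) two_pos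
      (by rw [h.card_sylow]; have := h.mix.pp.two_le; omega)
  obtain ⟨F, _, _, A, _, _, _, hAodd, ⟨e⟩⟩ :=
    Invol.AIC.IsOddCover.split (Invol.AIC.isOddCover hab S hnc (h.not_normal S))
  -- `|F| = 2ᵃ`
  obtain ⟨f, -, hf⟩ := FiniteField.card F 2
  set q := Fintype.card F with hq
  have hqpos : 2 ≤ q := Fintype.one_lt_card
  have hcard : Nat.card G = q * ((q - 1) * (q + 1)) * Nat.card A := by
    rw [Nat.card_congr e.toEquiv, Nat.card_prod, SL2.card_SL_two', Nat.card_eq_fintype_card]
  have hpq : p + 1 = q := by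
    have hq' : (q - 1) * (q + 1) ≠ 0 := Nat.mul_ne_zero (by omega) (by omega)
    rw [h.card, hcard, Nat.factorization_mul (Nat.mul_ne_zero (by omega) hq') Nat.card_pos.ne',
      Nat.factorization_mul (by omega) hq']
    have h1 : Odd ((q - 1) * (q + 1)) := by
      have hev : Even q := by rw [hf]; exact Nat.even_pow.mpr ⟨even_two, f.pos.ne'⟩
      obtain ⟨c, hc⟩ := hev
      exact Odd.mul ⟨c - 1, by omega⟩ ⟨c, by omega⟩
    rw [Finsupp.add_apply, Finsupp.add_apply,
      Nat.factorization_eq_zero_of_not_dvd (n := (q - 1) * (q + 1)) (fun hd =>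
        Nat.not_even_iff_odd.mpr h1 (even_iff_two_dvd.mpr hd)),
      Nat.factorization_eq_zero_of_not_dvd (n := Nat.card A) (fun hd =>
        Nat.not_even_iff_odd.mpr hAodd (even_iff_two_dvd.mpr hd)),
      add_zero, add_zero, hf, Nat.prime_two.factorization_pow, Finsupp.single_eq_same]
  obtain ⟨l, hl, hld⟩ := Nat.exists_prime_and_dvd (n := q + 1) (by omega)
  have hl2 : l ≠ 2 := by
    rintro rfl
    obtain ⟨c, hc⟩ := h.mix.pp.odd_of_ne_two h.mix.odd
    omega
  have hlp : l ≠ p := by
    rintro rfl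
    have h1 : l ∣ 2 := by
      have := Nat.dvd_sub hld (dvd_refl l)
      rwa [show q + 1 - l = 2 by omega] at this
    exact h.not_dvd_two h1
  haveI := Fact.mk hl
  obtain ⟨x, hx⟩ := exists_prime_orderOf_dvd_card' (G := SL(2, F)) l (by
    rw [SL2.card_SL_two', Nat.card_eq_fintype_card]
    exact hld.trans ((dvd_mul_left _ _).trans (dvd_mul_left _ _)))
  rcases exists_inverting x with ⟨J, hJ, hJx⟩ | hx'
  swap
  · have h1 := orderOf_dvd_of_pow_eq_one hx'
    rw [hx] at h1
    have h3 : l ∣ q + 1 - (q - 1) := Nat.dvd_sub hld h1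
    rw [show q + 1 - (q - 1) = 2 by omega] at h3
    exact hl2 ((Nat.prime_dvd_prime_iff_eq hl Nat.prime_two).mp h3)
  have hJ1 : J ≠ 1 := fun e1 => by
    rw [e1, one_mul, mul_one] at hJx
    have : x ^ 2 = 1 := by rw [pow_two]; nth_rewrite 2 [hJx]; exact mul_inv_cancel x
    have := orderOf_dvd_of_pow_eq_one this
    rw [hx] at this
    exact hl2 ((Nat.prime_dvd_prime_iff_eq hl Nat.prime_two).mp this)
  let ι : SL(2, F) →* G := e.symm.toMonoidHom.comp (MonoidHom.inl _ A)
  have hι : Function.Injective ι := fun a b hab' => by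
    have := e.symm.injective hab'
    exact (Prod.ext_iff.mp this).1
  have hxo : orderOf (ι x) = l := by rw [orderOf_injective ι hι, hx]
  have hJo : orderOf (ι J) = 2 :=
    (orderOf_injective ι hι J).trans (Invol.orderOf_two_of_mul_self hJ hJ1)
  refine h.mix.no_mixed (A := Subgroup.zpowers (ι x)) (B := Subgroup.zpowers (ι J))
    (Subgroup.zpowers_le.mpr ?_) ?_ ?_ (Or.inr ?_)
    (Subgroup.mem_sup_left (Subgroup.mem_zpowers _)) ?_ ?_
  · rw [← Transfer.map_conj_eq_self_iff, MonoidHom.map_zpowers]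
    show Subgroup.zpowers (ι J * ι x * (ι J)⁻¹) = _
    rw [Invol.inv_of_orderOf_two hJo, ← map_mul, ← map_mul, hJx, map_inv, Subgroup.zpowers_inv]
  · rw [Nat.card_zpowers, hxo]
    exact fun hd => hlp ((Nat.prime_dvd_prime_iff_eq h.mix.pp hl).mp hd).symm
  · rw [Nat.card_zpowers, hJo]; exact h.not_dvd_two
  · rw [Nat.card_zpowers, hJo]
  · exact fun e1 => hl.ne_one (by rw [← hxo, e1, orderOf_one])
  · rw [hxo]; exact fun hd => hl2 ((Nat.prime_dvd_prime_iff_eq Nat.prime_two hl).mp hd).symm

/-- Data around a nontrivial `3`-element `x` centralizing the involution `t`, and not `S`. -/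
theorem Act.cent_elem (h : Act 3 G) (S : Sylow 2 G) {t x : G} (ht : orderOf t = 2)
    (htS : t ∈ (S : Subgroup G)) (hxt : x * t = t * x) (hxk : ∃ k : ℕ, orderOf x = 3 ^ k)
    (hx1 : x ≠ 1) (hxS : ∃ s ∈ (S : Subgroup G), x * s ≠ s * x) :
    ∃ P : Sylow 3 G,
      (∀ g : G, (g * x = x * g ∧ ∃ k : ℕ, orderOf g = 3 ^ k) ↔ g ∈ (P : Subgroup G)) ∧
      ∀ g : G, g * x = x * g → g ∈ (P : Subgroup G) ∨ g * t ∈ (P : Subgroup G) := by
  haveI := Fact.mk Nat.prime_two
  haveI := Fact.mk Nat.prime_three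
  set H := Subgroup.centralizer ({x} : Set G) with hH
  have htH : t ∈ H := Subgroup.mem_centralizer_singleton_iff.mpr hxt.symm
  obtain ⟨T, hT⟩ := (Transfer.isPGroup_zpowers (p := 2) (x := (⟨t, htH⟩ : H))
    ⟨1, by rw [← Subgroup.orderOf_coe, pow_one]; exact ht⟩).exists_le_sylow
  have htT : (⟨t, htH⟩ : H) ∈ (T : Subgroup H) := hT (Subgroup.mem_zpowers _)
  -- the Sylow 2-subgroup of `C(x)` is `⟨t⟩`
  have hTc : Nat.card (T : Subgroup H) = 2 := by
    obtain ⟨S', hS'⟩ := (T.2.map H.subtype).exists_le_sylow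
    have hle : Nat.card (T : Subgroup H) ≤ 4 := by
      rw [← Subgroup.card_map_of_injective H.subtype_injective]
      exact (Subgroup.card_le_of_le hS').trans (h.card_sylow S').le
    have htwo : 2 ∣ Nat.card (T : Subgroup H) :=
      (dvd_of_eq (by rw [← Subgroup.orderOf_coe]; exact ht.symm)).trans
        ((T : Subgroup H).orderOf_dvd_natCard htT)
    obtain ⟨k, hk⟩ := T.2.exists_card_eq
    have h4 : Nat.card (T : Subgroup H) ≠ 4 := by
      intro h4
      have heq : (T : Subgroup H).map H.subtype = (S' : Subgroup G) :=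
        Subgroup.eq_of_le_of_card_ge hS' (by
          rw [Subgroup.card_map_of_injective H.subtype_injective, h4, h.card_sylow])
      have htS' : t ∈ (S' : Subgroup G) := hS' ⟨_, htT, rfl⟩
      set C := Subgroup.centralizer ({t} : Set G) with hC
      have hSC : ∀ U : Sylow 2 G, t ∈ (U : Subgroup G) → (U : Subgroup G) ≤ C := fun U hU u hu =>
        Subgroup.mem_centralizer_singleton_iff.mpr (h.commute_sylow U hu hU)
      obtain ⟨c, hc⟩ := MulAction.exists_smul_eq C (S.subtype (hSC S htS)) (S'.subtype (hSC S' htS'))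
      rw [Sylow.smul_subtype] at hc
      have hc' : (c : G) • S = S' := Sylow.subtype_injective hc
      obtain ⟨D, hD, hDp, -, hDS⟩ := h.exists_core ht
      obtain ⟨m, hm, s, hs, hcms⟩ := hDS S htS c c.2
      have hxm : x * m = m * x := h.commute_pgroup hDp
        ((hD x).mpr ⟨Subgroup.mem_centralizer_singleton_iff.mpr hxt, hxk⟩) hm
      obtain ⟨u, hu, hne⟩ := hxS
      refine hne ?_
      have h1 : (c : G) * (s⁻¹ * u * s) * (c : G)⁻¹ ∈ (S' : Subgroup G) := by
        rw [← hc', Transfer.smul_sylow_coe]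
        exact ⟨_, Subgroup.mul_mem _ (Subgroup.mul_mem _ (Subgroup.inv_mem _ hs) hu) hs, rfl⟩
      obtain ⟨w, -, hw⟩ := heq.ge h1
      have h2 : Commute ((c : G) * (s⁻¹ * u * s) * (c : G)⁻¹) x := by
        rw [← hw]; exact Subgroup.mem_centralizer_singleton_iff.mp w.2
      have h3 : (c : G) * (s⁻¹ * u * s) * (c : G)⁻¹ = m * u * m⁻¹ := by rw [hcms]; group
      rw [h3] at h2
      have h4 : Commute x u := by
        have hc1 : Commute x m := hxm
        have := (hc1.inv_right.mul_right h2.symm).mul_right hc1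
        rwa [show m⁻¹ * (m * u * m⁻¹) * m = u by group] at this
      exact h4.eq
    rcases k with _ | _ | _ | k
    · rw [hk, pow_zero] at htwo; omega
    · exact hk
    · exact absurd hk h4
    · have : 2 ^ 3 ≤ Nat.card (T : Subgroup H) := hk ▸ Nat.pow_le_pow_right two_pos (by omega)
      omega
  haveI : IsCyclic (T : Subgroup H) := isCyclic_of_prime_card hTc
  obtain ⟨T', M, hM, hMc'⟩ := ZStar.hasNormalPComplement_of_cyclic T inferInstance
  haveI := hM
  have hMc := Transfer.coprime_card_of_isComplement' hMc'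
  have hMq := Transfer.isPGroup_quotient_of_isComplement' hMc'
  obtain ⟨P, hP⟩ := (Transfer.isPGroup_zpowers (p := 3) hxk).exists_le_sylow
  have hxP : x ∈ (P : Subgroup G) := hP (Subgroup.mem_zpowers x)
  have hPH : (P : Subgroup G) ≤ H := fun y hy =>
    Subgroup.mem_centralizer_singleton_iff.mpr (h.commute_pgroup P.2 hy hxP)
  have hHne : H ≠ ⊤ := h.center_p hxk hx1
  have h2H : 2 ∣ Nat.card H := (dvd_of_eq ht.symm).trans (H.orderOf_dvd_natCard htH)
  -- `M` is a `3`-group containing `P`
  have hM3 : IsPGroup 3 (M.map H.subtype) := by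
    rw [IsPGroup.iff_card]
    refine ⟨_, Nat.eq_prime_pow_of_unique_prime_dvd Nat.card_pos.ne' fun {r} hr hrd => ?_⟩
    rw [Subgroup.card_map_of_injective H.subtype_injective] at hrd
    rcases h.proper H hHne h2H r hr (hrd.trans M.card_subgroup_dvd_card) with e | e
    · exact e
    · subst e; exact absurd hrd (Nat.prime_two.coprime_iff_not_dvd.mp hMc.symm)
  have hPM : (P : Subgroup G) ≤ M.map H.subtype := fun y hy => by
    refine ⟨⟨y, hPH hy⟩, (Transfer.mem_iff_coprime_orderOf hMc hMq).mpr ?_, rfl⟩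
    obtain ⟨k, hk⟩ := IsPGroup.iff_orderOf.mp P.2 ⟨y, hy⟩
    rw [← Subgroup.orderOf_coe] at hk ⊢
    exact hk ▸ (by norm_num : Nat.Coprime 3 2).pow_left k
  have heq : M.map H.subtype = (P : Subgroup G) := P.3 hM3 hPM
  refine ⟨P, fun g => ⟨fun ⟨hg, k, hk⟩ => ?_, fun hg => ⟨h.commute_pgroup P.2 hg hxP, ?_⟩⟩,
    fun g hg => ?_⟩
  · rw [← heq]
    refine ⟨⟨g, Subgroup.mem_centralizer_singleton_iff.mpr hg⟩,
      (Transfer.mem_iff_coprime_orderOf hMc hMq).mpr ?_, rfl⟩
    rw [← Subgroup.orderOf_coe]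
    exact hk ▸ (by norm_num : Nat.Coprime 3 2).pow_left k
  · obtain ⟨k, hk⟩ := IsPGroup.iff_orderOf.mp P.2 ⟨g, hg⟩
    exact ⟨k, by rw [← hk, ← Subgroup.orderOf_coe]⟩
  · obtain ⟨⟨m, u⟩, he⟩ := (Transfer.isComplement'_sylow hMc hMq T).surjective
      ⟨g, Subgroup.mem_centralizer_singleton_iff.mpr hg⟩
    have he' : g = ((m : H) : G) * ((u : H) : G) := (congrArg Subtype.val he).symm
    have hmP : ((m : H) : G) ∈ (P : Subgroup G) := heq ▸ Subgroup.mem_map_of_mem H.subtype m.2
    have hTeq : (T : Subgroup H) = Subgroup.zpowers (⟨t, htH⟩ : H) :=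
      (Subgroup.eq_of_le_of_card_ge hT (by
        rw [hTc, Nat.card_zpowers, ← Subgroup.orderOf_coe]; exact ht.ge)).symm
    obtain ⟨i, hi⟩ := Subgroup.mem_zpowers_iff.mp (hTeq.le u.2)
    have hu : ((u : H) : G) = t ^ i := by rw [← hi, Subgroup.coe_zpow]
    have htt := Invol.mul_self_of_orderOf_two ht
    rcases Int.even_or_odd' i with ⟨n, rfl | rfl⟩
    · left; rw [he', hu, zpow_mul, zpow_two, htt, one_zpow, mul_one]; exact hmP
    · right; rw [he', hu, zpow_add_one, zpow_mul, zpow_two, htt, one_zpow, one_mul, mul_assoc, htt,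
        mul_one]; exact hmP

/-- The dihedral-type case. -/
theorem Act.false_of_three (h : Act 3 G) (S : Sylow 2 G) {t m₀ : G} (ht : orderOf t = 2)
    (htS : t ∈ (S : Subgroup G)) (hm₀ : m₀ * t = t * m₀) (hm₀k : ∃ k : ℕ, orderOf m₀ = 3 ^ k)
    (hm₀S : ∃ s ∈ (S : Subgroup G), m₀ * s ≠ s * m₀) : False := by
  haveI := Fact.mk Nat.prime_two
  haveI := Fact.mk Nat.prime_three
  classical
  have ht1 := Invol.ne_one_of_orderOf_two ht
  have htt := Invol.mul_self_of_orderOf_two ht
  have hS4 : Nat.card (S : Subgroup G) = 4 := h.card_sylow S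
  obtain ⟨D, hD, hDp, hDN, hDS⟩ := h.exists_core ht
  have hfour := h.four rfl S ht htS hm₀ hm₀k hm₀S
  obtain ⟨s, hsS, hsm⟩ := hm₀S
  have hst : s ≠ t := fun e => hsm (e ▸ hm₀)
  have hs1 : s ≠ 1 := fun e => hsm (by rw [e, mul_one, one_mul])
  have hs2 := h.orderOf_mem S hsS hs1
  have hss := h.sq S s hsS
  have hsi : s⁻¹ = s := inv_eq_of_mul_eq_one_right hss
  have hts : t * s = s * t := h.commute_sylow S htS hsS
  -- the elements of `S`
  have hSel : ∀ u ∈ (S : Subgroup G), u = 1 ∨ u = t ∨ u = s ∨ u = s * t := by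
    intro u hu
    by_contra hcon
    push Not at hcon
    haveI := Fintype.ofFinite G
    have hsub : ({1, t, s, s * t, u} : Finset G) ⊆ Finset.univ.filter fun v => v ∈ (S : Subgroup G) := by
      intro v hv
      simp only [Finset.mem_insert, Finset.mem_singleton] at hv
      refine Finset.mem_filter.mpr ⟨Finset.mem_univ _, ?_⟩
      rcases hv with rfl | rfl | rfl | rfl | rfl
      exacts [one_mem _, htS, hsS, Subgroup.mul_mem _ hsS htS, hu]
    have h1 := Finset.card_le_card hsub
    have h2 : s * t ≠ 1 := fun e => hst (by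
      rw [← inv_eq_of_mul_eq_one_right e, hsi])
    have h3 : s * t ≠ t := fun e => hs1 (mul_eq_right.mp e)
    have h4 : s * t ≠ s := fun e => ht1 (mul_eq_left.mp e)
    rw [Finset.card_insert_of_notMem (by simp [ht1.symm, hs1.symm, h2.symm, hcon.1.symm]),
      Finset.card_insert_of_notMem (by simp [hst.symm, h3.symm, hcon.2.1.symm]),
      Finset.card_insert_of_notMem (by simp [h4.symm, hcon.2.2.1.symm]),
      Finset.card_insert_of_notMem (by simp [hcon.2.2.2.symm]),
      Finset.card_singleton, ← Fintype.card_subtype, ← Nat.card_eq_fintype_card] at h1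
    omega
  have hDt : ∀ x ∈ D, x * t = t * x := fun x hx =>
    Subgroup.mem_centralizer_singleton_iff.mp ((hD x).mp hx).1
  have hsN : s ∈ Subgroup.normalizer (D : Set G) :=
    hDN (Subgroup.mem_centralizer_singleton_iff.mpr hts.symm)
  have hDfix : ∀ x ∈ D, x * s = s * x → x = 1 := fun x hx e =>
    hfour x ((hD x).mp hx).2 fun u hu => by
      rcases hSel u hu with rfl | rfl | rfl | rfl
      exacts [by rw [mul_one, one_mul], hDt x hx, e,
        ((show Commute x s from e).mul_right (hDt x hx)).eq]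
  have hinv : ∀ x ∈ D, s * x * s⁻¹ = x⁻¹ := by
    intro x hx
    have hx' : s * x * s⁻¹ ∈ D := (Subgroup.mem_normalizer_iff.mp hsN x).mp hx
    refine eq_inv_of_mul_eq_one_right (hDfix _ (D.mul_mem hx hx') ?_)
    have hc : Commute x (s * x * s⁻¹) := h.commute_pgroup hDp hx hx'
    calc x * (s * x * s⁻¹) * s = (s * x * s⁻¹) * x * s := by rw [hc.eq]
      _ = s * (x * (s * x * s⁻¹)) := by rw [hsi]; simp only [mul_assoc]
  have hnS : ∀ x ∈ D, x ≠ 1 → ∃ u ∈ (S : Subgroup G), x * u ≠ u * x := fun x hx hx1 =>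
    ⟨s, hsS, fun e => hx1 (hDfix x hx e)⟩
  obtain ⟨y, hyS, hyk, hyfix⟩ := h.fpf S
  -- `P = D`
  have hcent : ∀ x ∈ D, x ≠ 1 → ∀ g : G, g * x = x * g → g ∈ D ∨ g * t ∈ D := by
    intro x hx hx1
    obtain ⟨P, hP, hPg⟩ := h.cent_elem S ht htS (hDt x hx) ((hD x).mp hx).2 hx1 (hnS x hx hx1)
    have hxx : x ∈ (P : Subgroup G) := (hP x).mp ⟨rfl, ((hD x).mp hx).2⟩
    have hDP : D ≤ (P : Subgroup G) := fun z hz =>
      (hP z).mp ⟨h.commute_pgroup hDp hz hx, ((hD z).mp hz).2⟩
    suffices hPD : (P : Subgroup G) ≤ D by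
      exact fun g hg => (hPg g hg).imp (fun e => hPD e) fun e => hPD e
    have hSP : (S : Subgroup G) ≤ Subgroup.normalizer ((P : Subgroup G) : Set G) := by
      have hmove : ∀ u ∈ (S : Subgroup G), u * x * u⁻¹ = x ∨ u * x * u⁻¹ = x⁻¹ := by
        intro u hu
        rcases hSel u hu with rfl | rfl | rfl | rfl
        · left; simp
        · left; rw [← hDt x hx, mul_inv_cancel_right]
        · right; exact hinv x hx
        · right
          calc s * t * x * (s * t)⁻¹ = s * (t * x * t⁻¹) * s⁻¹ := by group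
            _ = s * x * s⁻¹ := by rw [← hDt x hx, mul_inv_cancel_right]
            _ = x⁻¹ := hinv x hx
      intro u hu
      rw [← Transfer.map_conj_eq_self_iff]
      refine Subgroup.eq_of_le_of_card_ge ?_
        (le_of_eq (Subgroup.card_map_of_injective (MulAut.conj u).injective).symm)
      rintro _ ⟨z, hz, rfl⟩
      obtain ⟨hzx, k, hk⟩ := (hP z).mpr hz
      refine (hP _).mp ⟨?_, k, hk ▸ Transfer.orderOf_conj u z⟩
      have hc : Commute (u * z * u⁻¹) (u * x * u⁻¹) := by
        show u * z * u⁻¹ * (u * x * u⁻¹) = u * x * u⁻¹ * (u * z * u⁻¹)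
        calc u * z * u⁻¹ * (u * x * u⁻¹) = u * (z * x) * u⁻¹ := by group
          _ = _ := by rw [hzx]; group
      rcases hmove u hu with e | e <;> rw [e] at hc
      · exact hc.eq
      · have := hc.inv_right
        rw [inv_inv] at this
        exact this.eq
    haveI : IsMulCommutative (S : Subgroup G) :=
      ⟨⟨fun a b => Subtype.ext (h.commute_sylow S a.2 b.2)⟩⟩
    refine Coprime.le_of_centralizer_le (Coprime.not_isCyclic_of_exponent
      (fun a ha => by rw [pow_two]; exact h.sq S a ha) two_pos (by omega)) hSP ?_ fun u hu hu1 z hz => ?_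
    · obtain ⟨j, hj⟩ := P.2.exists_card_eq
      rw [hS4, hj]
      exact (by norm_num : Nat.Coprime 4 3).pow_right j
    obtain ⟨hzP, hzu⟩ := hz
    have hzu' : z * u = u * z := Subgroup.mem_centralizer_singleton_iff.mp hzu
    obtain ⟨hzx, hzk⟩ := (hP z).mpr hzP
    by_cases hut : u = t
    · subst hut
      exact (hD z).mpr ⟨hzu, hzk⟩
    by_cases hz1 : z = 1
    · exact hz1 ▸ D.one_mem
    exfalso
    have hu2 := h.orderOf_mem S hu hu1
    obtain ⟨Du, hDu, hDup, -, -⟩ := h.exists_core hu2
    have hzDu : z ∈ Du := (hDu z).mpr ⟨hzu, hzk⟩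
    have hzS : ∃ w ∈ (S : Subgroup G), z * w ≠ w * z := by
      by_contra hcon
      push Not at hcon
      exact hz1 (hfour z hzk hcon)
    obtain ⟨P', hP', -⟩ := h.cent_elem S hu2 hu hzu' hzk hz1 hzS
    have hPP' : (P : Subgroup G) = (P' : Subgroup G) :=
      (P.3 P'.2 fun w hw => (hP' w).mp ⟨h.commute_pgroup P.2 hw hzP, ((hP w).mpr hw).2⟩).symm
    have hDuP : Du ≤ (P : Subgroup G) := fun w hw =>
      hPP'.symm ▸ (hP' w).mp ⟨h.commute_pgroup hDup hw hzDu, ((hDu w).mp hw).2⟩
    -- an element carrying `t` to `u`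
    obtain ⟨g, hgN, hgk, hgt⟩ : ∃ g ∈ Subgroup.normalizer ((S : Subgroup G) : Set G),
        (∃ k : ℕ, orderOf g = 3 ^ k) ∧ g * t * g⁻¹ = u := by
      by_contra hcon
      push Not at hcon
      have hyt : y * t * y⁻¹ ∈ (S : Subgroup G) := (Subgroup.mem_normalizer_iff.mp hyS t).mp htS
      have hy't : y⁻¹ * t * y ∈ (S : Subgroup G) := by
        have := (Subgroup.mem_normalizer_iff''.mp hyS t).mp htS
        simpa using this
      obtain ⟨k, hk⟩ := hyk
      have c1 : y * t * y⁻¹ ≠ u := hcon y hyS ⟨k, hk⟩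
      have c2 : y⁻¹ * t * y ≠ u := by
        have := hcon y⁻¹ (Subgroup.inv_mem _ hyS) ⟨k, by rw [orderOf_inv, hk]⟩
        rwa [inv_inv] at this
      have n1 : y * t * y⁻¹ ≠ t := fun e => ht1 (hyfix t htS e)
      have n2 : y⁻¹ * t * y ≠ t := fun e => ht1 (hyfix t htS (by
        conv_lhs => rw [← e]
        group))
      have n3 : y * t * y⁻¹ ≠ 1 := fun e => ht1 (conj_eq_one_iff.mp e)
      have n4 : y⁻¹ * t * y ≠ 1 := fun e => ht1 (by
        rwa [show y⁻¹ * t * y = y⁻¹ * t * y⁻¹⁻¹ by rw [inv_inv], conj_eq_one_iff] at e)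
      have heq : y * t * y⁻¹ = y⁻¹ * t * y := by
        rcases hSel u hu with e | e | e | e <;> first
          | exact absurd e hu1
          | exact absurd e hut
          | (rcases hSel _ hyt with a | a | a | a <;> rcases hSel _ hy't with b | b | b | b <;>
              first
              | exact absurd a n3 | exact absurd a n1 | exact absurd b n4 | exact absurd b n2
              | exact a.trans b.symm
              | exact absurd (a.trans e.symm) c1 | exact absurd (b.trans e.symm) c2)
      have h2 : (y * y) * t * (y * y)⁻¹ = t := by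
        calc (y * y) * t * (y * y)⁻¹ = y * (y * t * y⁻¹) * y⁻¹ := by group
          _ = t := by rw [heq]; group
      obtain ⟨i, hi⟩ : Odd (orderOf y) := hk ▸ (by decide : Odd 3).pow
      have h3 : ∀ n : ℕ, (y * y) ^ n * t * ((y * y) ^ n)⁻¹ = t := by
        intro n
        induction n with
        | zero => simp
        | succ n ih =>
          calc (y * y) ^ (n + 1) * t * ((y * y) ^ (n + 1))⁻¹
              = (y * y) * ((y * y) ^ n * t * ((y * y) ^ n)⁻¹) * (y * y)⁻¹ := by
                rw [pow_succ', mul_inv_rev (y * y) ((y * y) ^ n)]; simp only [mul_assoc]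
            _ = t := by rw [ih, h2]
      have h4 := h3 (i + 1)
      rw [← pow_two, ← pow_mul, show 2 * (i + 1) = orderOf y + 1 by omega, pow_succ,
        pow_orderOf_eq_one, one_mul] at h4
      exact ht1 (hyfix t htS h4)
    have hgx : g * x * g⁻¹ ∈ Du := by
      obtain ⟨hxC, k, hk⟩ := (hD x).mp hx
      refine (hDu _).mpr ⟨Subgroup.mem_centralizer_singleton_iff.mpr ?_, k,
        hk ▸ Transfer.orderOf_conj g x⟩
      rw [← hgt]
      calc g * x * g⁻¹ * (g * t * g⁻¹) = g * (x * t) * g⁻¹ := by group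
        _ = _ := by rw [hDt x hx]; group
    have hgP : g ∈ Subgroup.normalizer ((P : Subgroup G) : Set G) := by
      rw [← Transfer.map_conj_eq_self_iff]
      refine (Subgroup.eq_of_le_of_card_ge ?_
        (le_of_eq (Subgroup.card_map_of_injective (MulAut.conj g).injective))).symm
      intro w hw
      obtain ⟨-, k, hk⟩ := (hP w).mpr hw
      refine ⟨g⁻¹ * w * g, (hP _).mp ⟨?_, k, ?_⟩, by simp [mul_assoc]⟩
      · have hc := h.commute_pgroup P.2 hw (hDuP hgx)
        calc g⁻¹ * w * g * x = g⁻¹ * (w * (g * x * g⁻¹)) * g := by group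
          _ = _ := by rw [hc]; group
      · rw [← hk]
        simpa using Transfer.orderOf_conj g⁻¹ w
    have hgPm : g ∈ (P : Subgroup G) := by
      have h1 := IsPGroup.to_sup_of_normal_right' (Transfer.isPGroup_zpowers hgk) P.2
        (Subgroup.zpowers_le.mpr hgP)
      exact (P.3 h1 le_sup_right).le (Subgroup.mem_sup_left (Subgroup.mem_zpowers g))
    have hgcx : g * x * g⁻¹ = x := by rw [h.commute_pgroup P.2 hgPm hxx, mul_inv_cancel_right]
    rw [hgcx] at hgx
    refine hx1 (hfour x ((hD x).mp hx).2 fun w hw => ?_)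
    have e1 : Commute x t := hDt x hx
    have e2 : Commute x u := Subgroup.mem_centralizer_singleton_iff.mp ((hDu x).mp hgx).1
    rcases hSel u hu with rfl | rfl | rfl | rfl
    · exact absurd rfl hu1
    · exact absurd rfl hut
    · rcases hSel w hw with rfl | rfl | rfl | rfl
      exacts [by rw [mul_one, one_mul], e1, e2, (e2.mul_right e1).eq]
    · have e3 : Commute x s := by
        have := e2.mul_right e1
        rwa [mul_assoc, htt, mul_one] at this
      rcases hSel w hw with rfl | rfl | rfl | rfl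
      exacts [by rw [mul_one, one_mul], e1, e3, e2]
  -- the setting
  set K := D ⊔ Subgroup.zpowers t with hKdef
  have hKmem : ∀ x ∈ K, ∃ a ∈ D, ∃ c, (1 = c ∨ t = c) ∧ x = a * c := by
    intro x hx
    rw [← SetLike.mem_coe, Subgroup.coe_mul_of_right_le_normalizer_left D (Subgroup.zpowers t)
      (Subgroup.zpowers_le.mpr (hDN (Subgroup.mem_centralizer_singleton_iff.mpr rfl)))] at hx
    obtain ⟨a, ha, c, hc, rfl⟩ := hx
    refine ⟨a, ha, c, ?_, rfl⟩
    obtain ⟨i, rfl⟩ := Subgroup.mem_zpowers_iff.mp hc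
    rcases Int.even_or_odd' i with ⟨n, rfl | rfl⟩
    · left; rw [zpow_mul, zpow_two, htt, one_zpow]
    · right; rw [zpow_add_one, zpow_mul, zpow_two, htt, one_zpow, one_mul]
  have hDK : D ≤ K := le_sup_left
  have htK : t ∈ K := le_sup_right (a := D) (Subgroup.mem_zpowers t)
  have hodd : ∀ a ∈ D, a * a = 1 → a = 1 := fun a ha e => by
    obtain ⟨k, hk⟩ := ((hD a).mp ha).2
    refine Invol.eq_one_of_odd_of_sq ?_ e
    rw [hk]; exact (by decide : Odd 3).pow
  have hKcomm : ∀ x ∈ K, ∀ x' ∈ K, x * x' = x' * x := by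
    intro x hx x' hx'
    obtain ⟨a, ha, c, hc, rfl⟩ := hKmem x hx
    obtain ⟨a', ha', c', hc', rfl⟩ := hKmem x' hx'
    have e1 : Commute a a' := h.commute_pgroup hDp ha ha'
    have e2 : Commute a c' := by rcases hc' with rfl | rfl; exacts [Commute.one_right a, hDt a ha]
    have e3 : Commute c a' := by
      rcases hc with rfl | rfl; exacts [Commute.one_left a', (hDt a' ha').symm]
    have e4 : Commute c c' := by
      rcases hc with rfl | rfl <;> rcases hc' with rfl | rfl <;>
        first | exact Commute.one_left _ | exact Commute.one_right _ | exact Commute.refl _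
    exact ((e1.mul_right e2).mul_left (e3.mul_right e4)).eq
  have hsq : ∀ x ∈ K, ∃ a ∈ D, x * x = a * a ∧ (a = 1 → x = 1 ∨ x = t) := by
    intro x hx
    obtain ⟨a, ha, c, hc, rfl⟩ := hKmem x hx
    refine ⟨a, ha, ?_, fun e => by rw [e, one_mul]; exact hc.imp Eq.symm Eq.symm⟩
    rcases hc with rfl | rfl
    · rw [mul_one]
    · rw [mul_assoc, ← mul_assoc t, ← hDt a ha, mul_assoc a t t, htt, mul_one]
  have huniq : ∀ x ∈ K, x * x = 1 → x = 1 ∨ x = t := fun x hx e => by
    obtain ⟨a, ha, e', hi⟩ := hsq x hx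
    exact hi (hodd a ha (e'.symm.trans e))
  have hsK : s ∉ K := fun hs => (huniq s hs hss).elim hs1 hst
  have hinvK : ∀ x ∈ K, s * x * s⁻¹ = x⁻¹ := by
    intro x hx
    obtain ⟨a, ha, c, hc, rfl⟩ := hKmem x hx
    have hcs : s * c * s⁻¹ = c⁻¹ := by
      rcases hc with rfl | rfl
      · simp
      · rw [← hts, mul_inv_cancel_right, inv_eq_of_mul_eq_one_right htt]
    have hac : Commute a c := by
      rcases hc with rfl | rfl
      exacts [Commute.one_right a, hDt a ha]
    rw [conj_mul.symm, hinv a ha, hcs, mul_inv_rev]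
    exact hac.inv_inv.eq
  have hset : BSW.Setting t K s :=
    { t2 := ht
      s2 := hs2
      comm := hKcomm
      tK := htK
      inv := hinvK
      uniq := huniq
      sK := hsK
      cent := fun g => by
        constructor
        · intro hg
          obtain ⟨m, hm, u, hu, rfl⟩ := hDS S htS g (Subgroup.mem_centralizer_singleton_iff.mpr hg)
          rcases hSel u hu with rfl | rfl | rfl | rfl
          · left; rw [mul_one]; exact hDK hm
          · left; exact K.mul_mem (hDK hm) htK
          · right; rw [mul_assoc, hss, mul_one]; exact hDK hm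
          · right
            rw [mul_assoc, mul_assoc s t s, hts, ← mul_assoc s, hss, one_mul]
            exact K.mul_mem (hDK hm) htK
        · rintro (hg | hg)
          · exact hKcomm g hg t htK
          · have e1 : Commute (g * s) t := hKcomm (g * s) hg t htK
            have e : Commute (g * s * s) t := e1.mul_left hts.symm
            rwa [mul_assoc, hss, mul_one] at e
      ti := fun g x hx hx1 hgx => by
        obtain ⟨a, ha, ea, hia⟩ := hsq x hx
        obtain ⟨a', ha', ea', -⟩ := hsq _ hgx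
        by_cases ha1 : a = 1
        · rw [(hia ha1).resolve_left hx1] at hgx
          have h1 : g * t * g⁻¹ * (g * t * g⁻¹) = 1 := by
            calc g * t * g⁻¹ * (g * t * g⁻¹) = g * (t * t) * g⁻¹ := by group
              _ = 1 := by rw [htt]; group
          exact mul_inv_eq_iff_eq_mul.mp ((huniq _ hgx h1).resolve_left
            fun e => ht1 (conj_eq_one_iff.mp e))
        · have hne : a * a ≠ 1 := fun e => ha1 (hodd a ha e)
          have e : g * (a * a) * g⁻¹ = a' * a' := by
            rw [← ea', ← ea]; group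
          have hc : g * t * g⁻¹ * (a' * a') = a' * a' * (g * t * g⁻¹) := by
            rw [← e]
            calc g * t * g⁻¹ * (g * (a * a) * g⁻¹) = g * (t * (a * a)) * g⁻¹ := by group
              _ = _ := by rw [← hDt _ (D.mul_mem ha ha)]; group
          have hord : orderOf (g * t * g⁻¹) = 2 := by rw [Transfer.orderOf_conj, ht]
          rcases hcent _ (D.mul_mem ha' ha') (by
            rw [← e]; exact fun e1 => hne (conj_eq_one_iff.mp e1)) _ hc with h1 | h1
          · exact absurd (hodd _ h1 (Invol.mul_self_of_orderOf_two hord))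
              (Invol.ne_one_of_orderOf_two hord)
          · have h2 : g * t * g⁻¹ ∈ K := by
              rw [show g * t * g⁻¹ = g * t * g⁻¹ * t * t by rw [mul_assoc (g * t * g⁻¹), htt, mul_one]]
              exact K.mul_mem (hDK h1) htK
            exact mul_inv_eq_iff_eq_mul.mp ((huniq _ h2 (Invol.mul_self_of_orderOf_two hord)).resolve_left
              (Invol.ne_one_of_orderOf_two hord))
      conj := h.oneClass }
  have hH : K ⊔ Subgroup.zpowers s = Subgroup.centralizer ({t} : Set G) := by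
    refine le_antisymm (sup_le (fun x hx => ?_) (Subgroup.zpowers_le.mpr ?_)) fun g hg => ?_
    · exact Subgroup.mem_centralizer_singleton_iff.mpr (hKcomm x hx t htK)
    · exact Subgroup.mem_centralizer_singleton_iff.mpr hts.symm
    · rcases (hset.cent g).mp (Subgroup.mem_centralizer_singleton_iff.mp hg) with e | e
      · exact Subgroup.mem_sup_left e
      · rw [show g = g * s * s⁻¹ by rw [mul_inv_cancel_right]]
        exact Subgroup.mul_mem _ (Subgroup.mem_sup_left e)
          (Subgroup.inv_mem _ (Subgroup.mem_sup_right (Subgroup.mem_zpowers s)))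
  obtain ⟨R, E, hG, hR, hEab, hER, -, hNR, hE⟩ := hset.main hH
  have hnorm : E ≤ Subgroup.normalizer (R : Set G) := hNR ▸ le_sup_right
  -- a `3`-element commutes with a conjugate of `t`
  have hcomm3 : ∀ z : G, orderOf z = 3 → ∃ v : G, orderOf v = 2 ∧ v * z = z * v := by
    intro z hz
    obtain ⟨P, hP⟩ := (Transfer.isPGroup_zpowers (p := 3) (x := z) ⟨1, by rw [hz, pow_one]⟩).exists_le_sylow
    obtain ⟨x, hxD, hx1⟩ : ∃ x ∈ D, x ≠ 1 := ⟨m₀,
      (hD m₀).mpr ⟨Subgroup.mem_centralizer_singleton_iff.mpr hm₀, hm₀k⟩,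
      fun e => hsm (by rw [e, one_mul, mul_one])⟩
    obtain ⟨P₀, hP₀⟩ := hDp.exists_le_sylow
    obtain ⟨g, hg⟩ := MulAction.exists_smul_eq G P₀ P
    have hz' := hP (Subgroup.mem_zpowers z)
    rw [← hg, Transfer.mem_smul_sylow] at hz'
    have hP₀D : ∀ w ∈ (P₀ : Subgroup G), w * t = t * w := by
      intro w hw
      rcases hcent x hxD hx1 w (h.commute_pgroup P₀.2 hw (hP₀ hxD)) with e | e
      · exact hDt w e
      · have e2 : Commute (w * t) t := hDt _ e
        have := e2.mul_left (Commute.refl t)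
        rwa [mul_assoc, htt, mul_one] at this
    refine ⟨g * t * g⁻¹, by rw [Transfer.orderOf_conj, ht], ?_⟩
    calc g * t * g⁻¹ * z = g * (t * (g⁻¹ * z * g)) * g⁻¹ := by group
      _ = _ := by rw [← hP₀D _ hz']; group
  rcases Nat.lt_or_ge (Nat.card E) 2 with hlt | hge
  · obtain ⟨r, hr, hrG, hr3, hr2⟩ := h.third
    have := Nat.card_pos (α := E)
    rw [show Nat.card R = 3 by omega] at hG
    have hG' : Nat.card G = 12 := by omega
    rw [hG'] at hrG
    rcases hr.dvd_mul.mp (show r ∣ 4 * 3 by norm_num; exact hrG) with e | e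
    · exact hr2 ((Nat.prime_dvd_prime_iff_eq hr Nat.prime_two).mp
        (hr.dvd_of_dvd_pow (show r ∣ 2 ^ 2 by norm_num; exact e)))
    · exact hr3 ((Nat.prime_dvd_prime_iff_eq hr Nat.prime_three).mp e)
  by_cases hEev : 2 ∣ Nat.card E
  · obtain ⟨d, hd⟩ := exists_prime_orderOf_dvd_card' (G := E) 2 hEev
    rw [← Subgroup.orderOf_coe] at hd
    obtain ⟨l, hl, hlR⟩ := Nat.exists_prime_and_dvd (n := Nat.card R) (by omega)
    haveI := Fact.mk hl
    obtain ⟨z, hz⟩ := exists_prime_orderOf_dvd_card' (G := R) l hlR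
    rw [← Subgroup.orderOf_coe] at hz
    have hz1 : (z : G) ≠ 1 := fun e => hl.ne_one (by rw [← hz, e, orderOf_one])
    have hl2 : l ≠ 2 := by rintro rfl; omega
    by_cases hl3 : l = 3
    · subst hl3
      obtain ⟨v, hv, hvz⟩ := hcomm3 z hz
      have h1 := R.orderOf_dvd_natCard (x := v)
        ((hR z z.2 hz1).le (Subgroup.mem_centralizer_singleton_iff.mpr hvz))
      rw [hv] at h1
      omega
    -- the elements of order dividing `l` of `R`
    have hRcomm : ∀ a ∈ R, ∀ b ∈ R, a * b = b * a := fun a ha b hb => by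
      rcases eq_or_ne b 1 with rfl | hb1
      · simp
      · exact Subgroup.mem_centralizer_singleton_iff.mp ((hR b hb hb1).ge ha)
    let V : Subgroup G :=
      { carrier := {a | a ∈ R ∧ a ^ l = 1}
        one_mem' := ⟨R.one_mem, one_pow l⟩
        mul_mem' := fun {a b} ha hb => ⟨R.mul_mem ha.1 hb.1, by
          rw [(show Commute a b from hRcomm a ha.1 b hb.1).mul_pow, ha.2, hb.2, one_mul]⟩
        inv_mem' := fun {a} ha => ⟨R.inv_mem ha.1, by rw [inv_pow, ha.2, inv_one]⟩ }
    have hVl : IsPGroup l V := fun v => ⟨1, Subtype.ext (by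
      rw [pow_one, Subgroup.coe_pow]; exact v.2.2)⟩
    have hVN : (d : G) ∈ Subgroup.normalizer (V : Set G) := by
      rw [← Transfer.map_conj_eq_self_iff]
      refine Subgroup.eq_of_le_of_card_ge ?_
        (le_of_eq (Subgroup.card_map_of_injective (MulAut.conj (d : G)).injective).symm)
      rintro _ ⟨a, ha, rfl⟩
      refine ⟨(Subgroup.mem_normalizer_iff.mp (hnorm d.2) a).mp ha.1, ?_⟩
      show ((d : G) * a * (d : G)⁻¹) ^ l = 1
      rw [conj_pow, ha.2]; group
    obtain ⟨j, hj⟩ := IsPGroup.iff_card.mp hVl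
    refine h.mix.no_mixed (A := V) (B := Subgroup.zpowers (d : G)) (Subgroup.zpowers_le.mpr hVN) ?_
      (by rw [Nat.card_zpowers, hd]; norm_num) (Or.inr (by rw [Nat.card_zpowers, hd]))
      (Subgroup.mem_sup_left (show (z : G) ∈ V from ⟨z.2, by rw [← hz, pow_orderOf_eq_one]⟩)) hz1 ?_
    · rw [hj]
      exact fun e => hl3 ((Nat.prime_dvd_prime_iff_eq Nat.prime_three hl).mp
        (Nat.prime_three.dvd_of_dvd_pow e)).symm
    · rw [hz]
      exact fun e => hl2 ((Nat.prime_dvd_prime_iff_eq Nat.prime_two hl).mp e).symm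
  have hE1 : E ≠ ⊥ := fun e => by rw [e, Subgroup.card_bot] at hge; omega
  obtain ⟨-, w, hw, -, hwinv, -⟩ := hE E le_rfl hE1
  obtain ⟨l, hl, hlE⟩ := Nat.exists_prime_and_dvd (n := Nat.card E) (by omega)
  haveI := Fact.mk hl
  have hl2 : l ≠ 2 := fun e => hEev (e ▸ hlE)
  obtain ⟨d, hd⟩ := exists_prime_orderOf_dvd_card' (G := E) l hlE
  rw [← Subgroup.orderOf_coe] at hd
  have hd1 : (d : G) ≠ 1 := fun e => hl.ne_one (by rw [← hd, e, orderOf_one])
  by_cases hl3 : l = 3
  · subst hl3
    obtain ⟨v, hv, hvd⟩ := hcomm3 d hd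
    obtain ⟨hND, w', hw', -, hw'inv, hNw'⟩ := hE (Subgroup.zpowers (d : G))
      (Subgroup.zpowers_le.mpr d.2) (fun e => hd1 (Subgroup.zpowers_eq_bot.mp e))
    have hvN : v ∈ Subgroup.normalizer (Subgroup.zpowers (d : G) : Set G) := by
      rw [← Transfer.map_conj_eq_self_iff, MonoidHom.map_zpowers]
      simp [hvd]
    rw [hND, hNw', ← SetLike.mem_coe, Subgroup.coe_mul_of_right_le_normalizer_left E
      (Subgroup.zpowers w') (Subgroup.zpowers_le.mpr
        (by rw [hNw']; exact Subgroup.mem_sup_right (Subgroup.mem_zpowers w')))] at hvN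
    obtain ⟨e, he, c, hc, hec⟩ := hvN
    rw [SetLike.mem_coe] at he hc
    obtain ⟨i, rfl⟩ := Subgroup.mem_zpowers_iff.mp hc
    have hww := Invol.mul_self_of_orderOf_two hw'
    rcases Int.even_or_odd' i with ⟨n, rfl | rfl⟩
    · rw [zpow_mul, zpow_two, hww, one_zpow] at hec
      have hve : v = e := by rw [← hec]; simp
      exact hEev ((dvd_of_eq hv.symm).trans (E.orderOf_dvd_natCard (hve ▸ he)))
    · rw [zpow_add_one, zpow_mul, zpow_two, hww, one_zpow, one_mul] at hec
      have hve : v = e * w' := hec.symm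
      have hed : Commute e (d : G) :=
        congrArg Subtype.val (hEab.is_comm.comm ⟨e, he⟩ ⟨(d : G), d.2⟩)
      have hwd : Commute w' (d : G) := by
        have h1 : Commute (e * w') (d : G) := hve ▸ hvd
        have := hed.inv_left.mul_left h1
        rwa [inv_mul_cancel_left] at this
      have h2 := hw'inv d d.2
      rw [hwd.eq, mul_inv_cancel_right] at h2
      refine hd1 (Invol.eq_one_of_odd_of_sq (by rw [hd]; decide) ?_)
      nth_rewrite 2 [h2]
      exact mul_inv_cancel _
  refine h.mix.no_mixed (A := Subgroup.zpowers (d : G)) (B := Subgroup.zpowers w)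
    (Subgroup.zpowers_le.mpr ?_) ?_ ?_ (Or.inr (by rw [Nat.card_zpowers, hw]))
    (Subgroup.mem_sup_left (Subgroup.mem_zpowers _)) hd1 ?_
  · rw [← Transfer.map_conj_eq_self_iff, MonoidHom.map_zpowers]
    show Subgroup.zpowers (w * d * w⁻¹) = _
    rw [hwinv d d.2, Subgroup.zpowers_inv]
  · rw [Nat.card_zpowers, hd]
    exact fun e => hl3 ((Nat.prime_dvd_prime_iff_eq Nat.prime_three hl).mp e).symm
  · rw [Nat.card_zpowers, hw]; norm_num
  · rw [hd]
    exact fun e => hl2 ((Nat.prime_dvd_prime_iff_eq Nat.prime_two hl).mp e).symm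

/-- The extremal configuration does not occur. -/
theorem Act.elim_act (h : Act p G) : False := by
  by_cases hab : ∀ (S : Sylow 2 G) (t : G), orderOf t = 2 → t ∈ (S : Subgroup G) → ∀ m : G,
      m * t = t * m → (∃ k : ℕ, orderOf m = p ^ k) → ∀ s ∈ (S : Subgroup G), m * s = s * m
  · exact h.false_of_abelian hab
  · push Not at hab
    obtain ⟨S, t, ht, htS, m, hm, hmk, hmS⟩ := hab
    have hp3 : p = 3 := by
      by_contra hne
      obtain ⟨s, hs, hne'⟩ := hmS
      refine hne' (h.hyperplanes ?_ S ht htS hm hmk s hs)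
      have := h.card
      have := h.mix.pp.two_le
      have := h.mix.odd
      have hf : 3 ≤ (Nat.card G).factorization 2 := by
        by_contra hlt
        have : 2 ^ (Nat.card G).factorization 2 ≤ 2 ^ 2 := Nat.pow_le_pow_right two_pos (by omega)
        omega
      have h8 : 2 ^ 3 ≤ 2 ^ (Nat.card G).factorization 2 := Nat.pow_le_pow_right two_pos hf
      omega
    subst hp3
    exact h.false_of_three S ht htS hm hmk hmS

end CfsgLib.MixedPrimes
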