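import Cfsg.Agent.Lib.MixedPrimes.Basic
import Cfsg.Agent.Lib.Coprime.Generation
import Cfsg.Agent.Lib.PSolvable.Core
import Cfsg.Agent.Lib.ZStar.Basic
import Cfsg.Agent.Lib.Invol.Dihedral
import Cfsg.Agent.S0144

/-!
# The extremal case `p = 2ᵃ - 1`: involution centralizers

The Sylow 2-subgroups are elementary abelian with a `p`-element acting fixed-point-freely. An
involution centralizer is `D ⋊ S`, and `D` centralizes `S` unless `a = 2` and `S` inverts `D`.
-/

set_option autoImplicit false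
set_option linter.style.haveILetI false
set_option linter.unusedSectionVars false

namespace CfsgLib.MixedPrimes

variable {G : Type*} [Group G] [Finite G] {p : ℕ}

/-- The extremal configuration in a minimal counterexample. -/
structure Act (p : ℕ) (G : Type*) [Group G] : Prop where
  mix : Mix p 2 G
  ab : ∀ P : Sylow p G, IsMulCommutative P
  card : p + 1 = 2 ^ (Nat.card G).factorization 2
  sq : ∀ S : Sylow 2 G, ∀ x ∈ (S : Subgroup G), x * x = 1
  fpf : ∀ S : Sylow 2 G, ∃ y ∈ Subgroup.normalizer ((S : Subgroup G) : Set G),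
    (∃ k : ℕ, orderOf y = p ^ k) ∧ ∀ x ∈ (S : Subgroup G), y * x * y⁻¹ = x → x = 1
  oneClass : ∀ s t : G, orderOf s = 2 → orderOf t = 2 → IsConj s t
  noCore : Cfsg.pCore p G = ⊥
  proper : ∀ H : Subgroup G, H ≠ ⊤ → 2 ∣ Nat.card H → ∀ r : ℕ, r.Prime → r ∣ Nat.card H → r = p ∨ r = 2
  third : ∃ r : ℕ, r.Prime ∧ r ∣ Nat.card G ∧ r ≠ p ∧ r ≠ 2

theorem Act.commute_pgroup (h : Act p G) {X : Subgroup G} (hX : IsPGroup p X) {a b : G} (ha : a ∈ X)
    (hb : b ∈ X) : a * b = b * a := by
  obtain ⟨P, hP⟩ := hX.exists_le_sylow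
  exact congrArg Subtype.val ((h.ab P).is_comm.comm ⟨a, hP ha⟩ ⟨b, hP hb⟩)

theorem Act.card_sylow (h : Act p G) (S : Sylow 2 G) : Nat.card (S : Subgroup G) = p + 1 := by
  rw [h.card]
  exact S.card_eq_multiplicity

theorem Act.commute_sylow (h : Act p G) (S : Sylow 2 G) {a b : G} (ha : a ∈ (S : Subgroup G))
    (hb : b ∈ (S : Subgroup G)) : a * b = b * a := by
  have h1 := h.sq S _ (Subgroup.mul_mem _ ha hb)
  calc a * b = a * (a * b * (a * b)) * b := by rw [h1, mul_one]
    _ = (a * a) * (b * a) * (b * b) := by simp only [mul_assoc]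
    _ = b * a := by rw [h.sq S a ha, h.sq S b hb, one_mul, mul_one]

theorem Act.orderOf_mem (h : Act p G) (S : Sylow 2 G) {a : G} (ha : a ∈ (S : Subgroup G))
    (ha1 : a ≠ 1) : orderOf a = 2 :=
  Invol.orderOf_two_of_mul_self (h.sq S a ha) ha1

theorem Act.not_dvd_two (h : Act p G) : ¬ p ∣ 2 := fun hd =>
  h.mix.odd ((Nat.prime_dvd_prime_iff_eq h.mix.pp Nat.prime_two).mp hd)

theorem Act.center_p (h : Act p G) {z : G} (hz : ∃ k : ℕ, orderOf z = p ^ k) (hz1 : z ≠ 1) :
    Subgroup.centralizer ({z} : Set G) ≠ ⊤ := by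
  intro htop
  haveI := Fact.mk h.mix.pp
  have hn : (Subgroup.zpowers z).Normal := by
    refine ⟨fun x hx g => ?_⟩
    obtain ⟨j, rfl⟩ := Subgroup.mem_zpowers_iff.mp hx
    have hc : Commute g z := Subgroup.mem_centralizer_singleton_iff.mp (htop ▸ Subgroup.mem_top g)
    rw [(hc.zpow_right j).eq, mul_inv_cancel_right]
    exact ⟨j, rfl⟩
  have := Fitting.le_pCore hn (Transfer.isPGroup_zpowers hz)
  rw [h.noCore, le_bot_iff, Subgroup.zpowers_eq_bot] at this
  exact hz1 this

/-- The centralizer of an involution is a `p`-group extended by a Sylow 2-subgroup. -/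
theorem Act.exists_core (h : Act p G) {t : G} (ht : orderOf t = 2) :
    ∃ D : Subgroup G,
      (∀ x : G, x ∈ D ↔ x ∈ Subgroup.centralizer ({t} : Set G) ∧ ∃ k : ℕ, orderOf x = p ^ k) ∧
      IsPGroup p D ∧ Subgroup.centralizer ({t} : Set G) ≤ Subgroup.normalizer (D : Set G) ∧
      ∀ S : Sylow 2 G, t ∈ (S : Subgroup G) → ∀ g ∈ Subgroup.centralizer ({t} : Set G),
        ∃ m ∈ D, ∃ s ∈ (S : Subgroup G), g = m * s := by
  haveI := Fact.mk h.mix.pp
  haveI := Fact.mk Nat.prime_two
  set C := Subgroup.centralizer ({t} : Set G) with hCdef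
  have hpow : ∀ x ∈ C, (orderOf x).Coprime 2 → ∃ k : ℕ, orderOf x = p ^ k := by
    intro x hx hx2
    obtain ⟨a, b, hab, ha, hb, hak, hbc⟩ := PPrimeAbelian.exists_split h.mix.pp x
    have hb1 : b = 1 := by
      refine h.mix.not_commute ht ?_ (h.mix.pp.coprime_iff_not_dvd.mp hbc.symm) fun hd => ?_
      · exact Subgroup.mem_centralizer_singleton_iff.mp (Subgroup.zpowers_le.mpr hx hb)
      · obtain ⟨j, rfl⟩ := Subgroup.mem_zpowers_iff.mp hb
        exact Nat.prime_two.coprime_iff_not_dvd.mp hx2.symm (hd.trans (orderOf_dvd_of_pow_eq_one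
          (by rw [← zpow_natCast, ← zpow_mul, mul_comm, zpow_mul, zpow_natCast, pow_orderOf_eq_one,
            one_zpow])))
    rw [hab, hb1, mul_one]
    exact hak
  have haut : Transfer.PAutomizers 2 C := by
    intro X hX g hg hg2
    have hgC := g.2
    rw [← Subgroup.orderOf_coe] at hg2
    obtain hgk := hpow g g.2 hg2
    refine Subgroup.mem_centralizer_iff.mpr fun x hx => Subtype.ext ?_
    by_contra hne
    have hgN : (g : G) ∈ Subgroup.normalizer ((X.map C.subtype : Subgroup G) : Set G) := by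
      rw [← Transfer.map_conj_eq_self_iff, Subgroup.map_map]
      rw [← Transfer.map_conj_eq_self_iff] at hg
      conv_rhs => rw [← hg, Subgroup.map_map]
      congr 1
    obtain ⟨-, hp2, hcard, -, -, hfix, -⟩ := h.mix.action (hX.map C.subtype) hgN hgk
      ⟨x, ⟨x, hx, rfl⟩, fun e => hne (mul_inv_eq_iff_eq_mul.mp e).symm⟩
    set X' : Sylow 2 G := Sylow.ofCard (X.map C.subtype) hcard
    have htX : t ∈ (X' : Subgroup G) := by
      refine CfsgLib.MixedPrimes.mem_of_centralizes X' (fun z hz => ?_) ⟨1, by rw [ht, pow_one]⟩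
      obtain ⟨z, -, rfl⟩ := hz
      exact Subgroup.mem_centralizer_singleton_iff.mp z.2
    exact Invol.ne_one_of_orderOf_two ht (hfix t htX
      (mul_inv_eq_iff_eq_mul.mpr (Subgroup.mem_centralizer_singleton_iff.mp g.2)))
  obtain ⟨T, M, hM, hc⟩ := Transfer.hasNormalPComplement_of_pAutomizers haut
  haveI := hM
  have hMc := Transfer.coprime_card_of_isComplement' hc
  have hMq := Transfer.isPGroup_quotient_of_isComplement' hc
  have hiff : ∀ x : G, x ∈ M.map C.subtype ↔ x ∈ C ∧ ∃ k : ℕ, orderOf x = p ^ k := by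
    intro x
    constructor
    · rintro ⟨x, hx, rfl⟩
      refine ⟨x.2, hpow x x.2 ?_⟩
      rw [Subgroup.orderOf_coe]
      exact Transfer.coprime_orderOf_of_mem hMc hx
    · rintro ⟨hxC, k, hk⟩
      refine ⟨⟨x, hxC⟩, (Transfer.mem_iff_coprime_orderOf hMc hMq).mpr ?_, rfl⟩
      rw [← Subgroup.orderOf_coe]
      exact hk ▸ ((Nat.coprime_primes h.mix.pp Nat.prime_two).mpr h.mix.odd).pow_left k
  refine ⟨M.map C.subtype, hiff, ?_, fun c hc' => ?_, fun S htS g hg => ?_⟩
  · intro x
    obtain ⟨-, k, hk⟩ := (hiff x).mp x.2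
    exact ⟨k, Subtype.ext (by rw [Subgroup.coe_pow, ← hk, pow_orderOf_eq_one]; rfl)⟩
  · rw [Subgroup.mem_normalizer_iff]
    intro x
    rw [hiff, hiff, Transfer.orderOf_conj]
    refine and_congr_left fun _ => ⟨fun hx => C.mul_mem (C.mul_mem hc' hx) (C.inv_mem hc'), fun hx => ?_⟩
    have := C.mul_mem (C.mul_mem (C.inv_mem hc') hx) hc'
    simpa [mul_assoc] using this
  · have hSC : (S : Subgroup G) ≤ C := fun x hx =>
      Subgroup.mem_centralizer_singleton_iff.mpr (h.commute_sylow S hx htS)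
    obtain ⟨⟨m, s⟩, he⟩ := (Transfer.isComplement'_sylow hMc hMq (S.subtype hSC)).surjective ⟨g, hg⟩
    exact ⟨((m : C) : G), Subgroup.mem_map_of_mem C.subtype m.2, ((s : C) : G), s.2,
      (congrArg Subtype.val he).symm⟩

/-- A 2-subgroup of `S` invariant under a fixed-point-free `p`-element is `1` or `S`. -/
theorem Act.eq_of_invariant (h : Act p G) (S : Sylow 2 G) {X : Subgroup G}
    (hX : X ≤ (S : Subgroup G)) {y : G} (hy : ∃ k : ℕ, orderOf y = p ^ k)
    (hyX : y ∈ Subgroup.normalizer (X : Set G))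
    (hfix : ∀ x ∈ (S : Subgroup G), y * x * y⁻¹ = x → x = 1) {x : G} (hx : x ∈ X) (hx1 : x ≠ 1) :
    X = (S : Subgroup G) := by
  obtain ⟨-, -, hc, -⟩ := h.mix.action (S.2.to_le hX) hyX hy ⟨x, hx, fun e => hx1 (hfix x (hX hx) e)⟩
  refine Subgroup.eq_of_le_of_card_ge hX ?_
  rw [hc]
  exact le_of_eq S.card_eq_multiplicity

/-- If some `p`-element acting fixed-point-freely on `S` commutes with `m`, and `m` centralizes an
involution of `S`, then `m` centralizes `S`. -/
theorem Act.centralizes_of_commute (h : Act p G) (S : Sylow 2 G) {y m t : G}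
    (hy : ∃ k : ℕ, orderOf y = p ^ k) (hyS : y ∈ Subgroup.normalizer ((S : Subgroup G) : Set G))
    (hfix : ∀ x ∈ (S : Subgroup G), y * x * y⁻¹ = x → x = 1) (hmy : m * y = y * m)
    (ht : t ∈ (S : Subgroup G)) (ht1 : t ≠ 1) (hmt : m * t = t * m) :
    ∀ s ∈ (S : Subgroup G), m * s = s * m := by
  set X := (S : Subgroup G) ⊓ Subgroup.centralizer ({m} : Set G)
  have hX : X = (S : Subgroup G) := by
    refine h.eq_of_invariant S inf_le_left hy ?_ hfix
      (Subgroup.mem_inf.mpr ⟨ht, Subgroup.mem_centralizer_singleton_iff.mpr hmt.symm⟩) ht1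
    rw [Subgroup.mem_normalizer_iff]
    intro x
    have hc : Commute y m := hmy.symm
    rw [Subgroup.mem_inf, Subgroup.mem_inf, ← Subgroup.mem_normalizer_iff.mp hyS x,
      Subgroup.mem_centralizer_singleton_iff, Subgroup.mem_centralizer_singleton_iff]
    refine and_congr_right fun _ => ⟨fun e => ?_, fun e => ?_⟩
    · exact ((hc.mul_left (e : Commute x m)).mul_left hc.inv_left).eq
    · have := ((hc.inv_left.mul_left (e : Commute (y * x * y⁻¹) m)).mul_left hc).eq
      simpa [mul_assoc] using this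
  intro s hs
  exact (Subgroup.mem_centralizer_singleton_iff.mp (hX.ge hs).2).symm

theorem Act.hyperplanes (h : Act p G) (ha : 8 ≤ p + 1) (S : Sylow 2 G) {t : G}
    (ht : orderOf t = 2) (htS : t ∈ (S : Subgroup G)) {m : G}
    (hm : m * t = t * m) (hmk : ∃ k : ℕ, orderOf m = p ^ k) :
    ∀ s ∈ (S : Subgroup G), m * s = s * m := by
  haveI := Fact.mk h.mix.pp
  haveI := Fact.mk Nat.prime_two
  obtain ⟨y, hyS, hyk, hfix⟩ := h.fpf S
  let W : Set G := {x | (∃ k : ℕ, orderOf x = p ^ k) ∧ ∃ T : Subgroup G, T ≤ (S : Subgroup G) ∧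
    T.relIndex (S : Subgroup G) ≤ 2 ∧ x ∈ Subgroup.centralizer (T : Set G)}
  have hWc : ∀ x ∈ W, ∀ x' ∈ W, x * x' = x' * x := by
    rintro x ⟨hxk, T, hT, hTi, hxT⟩ x' ⟨hx'k, T', hT', hT'i, hx'T⟩
    obtain ⟨u, huT, hu1⟩ : ∃ u ∈ T ⊓ T', u ≠ 1 := by
      by_contra hcon
      push Not at hcon
      have h1 := Subgroup.relIndex_inf_le (H := T) (K := T') (L := (S : Subgroup G))
      rw [(Subgroup.eq_bot_iff_forall _).mpr hcon, Subgroup.relIndex_bot_left, h.card_sylow] at h1
      have := h1.trans (Nat.mul_le_mul hTi hT'i)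
      omega
    obtain ⟨D, hD, hDp, -, -⟩ := h.exists_core (h.orderOf_mem S (hT huT.1) hu1)
    refine h.commute_pgroup hDp ((hD x).mpr ⟨?_, hxk⟩) ((hD x').mpr ⟨?_, hx'k⟩)
    · exact Subgroup.mem_centralizer_singleton_iff.mpr (Subgroup.mem_centralizer_iff.mp hxT u huT.1).symm
    · exact Subgroup.mem_centralizer_singleton_iff.mpr (Subgroup.mem_centralizer_iff.mp hx'T u huT.2).symm
  set A := Subgroup.closure W with hA
  have hAc : ∀ a ∈ A, ∀ b ∈ A, a * b = b * a := fun a ha b hb => by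
    haveI : IsMulCommutative ↥(Subgroup.closure W) := Subgroup.isMulCommutative_closure hWc
    exact congrArg Subtype.val
      ((inferInstance : IsMulCommutative ↥(Subgroup.closure W)).is_comm.comm ⟨a, ha⟩ ⟨b, hb⟩)
  have hAp : IsPGroup p A := by
    have key : ∀ a ∈ A, ∃ k : ℕ, a ^ p ^ k = 1 := by
      intro a ha
      induction ha using Subgroup.closure_induction with
      | mem a ha => obtain ⟨⟨k, hk⟩, -⟩ := ha; exact ⟨k, by rw [← hk, pow_orderOf_eq_one]⟩
      | one => exact ⟨0, by simp⟩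
      | mul a b ha hb iha ihb =>
        obtain ⟨i, hi⟩ := iha; obtain ⟨j, hj⟩ := ihb
        refine ⟨i + j, ?_⟩
        rw [(show Commute a b from hAc a ha b hb).mul_pow, pow_add, pow_mul, hi, one_pow, one_mul,
          mul_comm, pow_mul, hj, one_pow]
      | inv a ha iha => obtain ⟨i, hi⟩ := iha; exact ⟨i, by rw [inv_pow, hi, inv_one]⟩
    intro a
    obtain ⟨k, hk⟩ := key a a.2
    exact ⟨k, Subtype.ext (by rw [Subgroup.coe_pow]; exact hk)⟩
  have hWy : ∀ g ∈ Subgroup.normalizer ((S : Subgroup G) : Set G), ∀ x ∈ W, g * x * g⁻¹ ∈ W := by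
    rintro g hg x ⟨⟨k, hk⟩, T, hT, hTi, hxT⟩
    refine ⟨⟨k, by rw [Transfer.orderOf_conj, hk]⟩, T.map (MulAut.conj g).toMonoidHom, ?_, ?_, ?_⟩
    · rw [← Transfer.map_conj_eq_self_iff.mpr hg]
      exact Subgroup.map_mono hT
    · rw [← Transfer.map_conj_eq_self_iff.mpr hg,
        Subgroup.relIndex_map_map_of_injective _ _ (MulAut.conj g).injective]
      exact hTi
    · refine Subgroup.mem_centralizer_iff.mpr ?_
      rintro _ ⟨u, hu, rfl⟩
      show g * u * g⁻¹ * (g * x * g⁻¹) = g * x * g⁻¹ * (g * u * g⁻¹)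
      calc g * u * g⁻¹ * (g * x * g⁻¹) = g * (u * x) * g⁻¹ := by group
        _ = _ := by rw [Subgroup.mem_centralizer_iff.mp hxT u hu]; group
  have hyA : y ∈ Subgroup.normalizer (A : Set G) := by
    rw [← Transfer.map_conj_eq_self_iff]
    refine Subgroup.eq_of_le_of_card_ge ?_
      (le_of_eq (Subgroup.card_map_of_injective (MulAut.conj y).injective).symm)
    rw [hA, MonoidHom.map_closure, Subgroup.closure_le]
    rintro _ ⟨x, hx, rfl⟩
    exact Subgroup.subset_closure (hWy y hyS x hx)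
  have hsup : IsPGroup p ↥(Subgroup.zpowers y ⊔ A) :=
    IsPGroup.to_sup_of_normal_right' (Transfer.isPGroup_zpowers hyk) hAp (Subgroup.zpowers_le.mpr hyA)
  obtain ⟨D, hD, hDp, hDN, -⟩ := h.exists_core ht
  have hle : D ≤ Subgroup.centralizer ({y} : Set G) := by
    refine Coprime.le_of_hyperplane_centralizer_le (p := 2) (A := (S : Subgroup G)) (K := D)
      ⟨⟨fun a b => Subtype.ext (h.commute_sylow S a.2 b.2)⟩⟩
      (fun a ha' => by rw [pow_two]; exact h.sq S a ha') (by rw [h.card_sylow]; omega)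
      (fun s hs => hDN (Subgroup.mem_centralizer_singleton_iff.mpr (h.commute_sylow S hs htS)))
      ?_ fun T hT hTi x hx => ?_
    · obtain ⟨i, hi⟩ := IsPGroup.iff_card.mp hDp
      rw [S.card_eq_multiplicity, hi]
      exact Nat.coprime_pow_primes _ _ Nat.prime_two h.mix.pp (Ne.symm h.mix.odd)
    · refine Subgroup.mem_centralizer_singleton_iff.mpr (h.commute_pgroup hsup
        (Subgroup.mem_sup_right (Subgroup.subset_closure ⟨((hD x).mp hx.1).2, T, hT, hTi, hx.2⟩))
        (Subgroup.mem_sup_left (Subgroup.mem_zpowers y)))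
  exact h.centralizes_of_commute S hyk hyS hfix
    (Subgroup.mem_centralizer_singleton_iff.mp
      (hle ((hD m).mpr ⟨Subgroup.mem_centralizer_singleton_iff.mpr hm, hmk⟩)))
    htS (Invol.ne_one_of_orderOf_two ht) hm

/-- For a four-group: a `p`-element centralizing an involution and not `S` has no nontrivial
companion centralizing `S`. -/
theorem Act.four (h : Act p G) (ha : p = 3) (S : Sylow 2 G) {t : G}
    (ht : orderOf t = 2) (htS : t ∈ (S : Subgroup G)) {m : G}
    (hm : m * t = t * m) (hmk : ∃ k : ℕ, orderOf m = p ^ k)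
    (hmS : ∃ s ∈ (S : Subgroup G), m * s ≠ s * m) :
    ∀ z : G, (∃ k : ℕ, orderOf z = p ^ k) → (∀ s ∈ (S : Subgroup G), z * s = s * z) → z = 1 := by
  subst ha
  haveI := Fact.mk h.mix.pp
  haveI := Fact.mk Nat.prime_two
  intro z hzk hzS
  by_contra hz1
  obtain ⟨y, hyS, hyk, hfix⟩ := h.fpf S
  have ht1 := Invol.ne_one_of_orderOf_two ht
  obtain ⟨D, hD, hDp, hDN, -⟩ := h.exists_core ht
  set H := Subgroup.centralizer ({z} : Set G) with hHdef
  have hmD : m ∈ D := (hD m).mpr ⟨Subgroup.mem_centralizer_singleton_iff.mpr hm, hmk⟩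
  have hzD : z ∈ D := (hD z).mpr ⟨Subgroup.mem_centralizer_singleton_iff.mpr (hzS t htS), hzk⟩
  have hmH : m ∈ H := Subgroup.mem_centralizer_singleton_iff.mpr (h.commute_pgroup hDp hmD hzD)
  have hSH : (S : Subgroup G) ≤ H := fun s hs =>
    Subgroup.mem_centralizer_singleton_iff.mpr (hzS s hs).symm
  have hyH : y ∈ H := by
    set B := D ⊓ Subgroup.centralizer ((S : Subgroup G) : Set G) with hB
    have hyB : y ∈ Subgroup.normalizer (B : Set G) := by
      rw [← Transfer.map_conj_eq_self_iff]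
      refine Subgroup.eq_of_le_of_card_ge ?_
        (le_of_eq (Subgroup.card_map_of_injective (MulAut.conj y).injective).symm)
      rintro _ ⟨x, hx, rfl⟩
      have hc : y * x * y⁻¹ ∈ Subgroup.centralizer ((S : Subgroup G) : Set G) := by
        refine Subgroup.mem_centralizer_iff.mpr fun s hs => ?_
        have hs' : y⁻¹ * s * y ∈ (S : Subgroup G) := by
          have := (Subgroup.mem_normalizer_iff''.mp hyS s).mp hs
          simpa using this
        calc s * (y * x * y⁻¹) = y * ((y⁻¹ * s * y) * x) * y⁻¹ := by group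
          _ = _ := by rw [Subgroup.mem_centralizer_iff.mp hx.2 _ hs']; group
      refine ⟨(hD _).mpr ⟨Subgroup.mem_centralizer_singleton_iff.mpr
        (Subgroup.mem_centralizer_iff.mp hc t htS).symm, ?_⟩, hc⟩
      obtain ⟨k, hk⟩ := ((hD x).mp hx.1).2
      exact ⟨k, hk ▸ Transfer.orderOf_conj y x⟩
    have hsup : IsPGroup 3 ↥(Subgroup.zpowers y ⊔ B) :=
      IsPGroup.to_sup_of_normal_right' (Transfer.isPGroup_zpowers hyk) (hDp.to_le inf_le_left)
        (Subgroup.zpowers_le.mpr hyB)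
    exact Subgroup.mem_centralizer_singleton_iff.mpr (h.commute_pgroup hsup
      (Subgroup.mem_sup_left (Subgroup.mem_zpowers y))
      (Subgroup.mem_sup_right ⟨hzD, Subgroup.mem_centralizer_iff.mpr fun s hs => (hzS s hs).symm⟩))
  have hne := h.center_p hzk hz1
  have h2 : 2 ∣ Nat.card H := (dvd_of_eq ht.symm).trans (H.orderOf_dvd_natCard (hSH htS))
  have hprimes := h.proper H hne h2
  have hsol : Group.IsSolvable H := by
    refine Cfsg.Agent.S0144.result 2 3 ((Nat.card H).factorization 2)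
      ((Nat.card H).factorization 3) Nat.prime_two Nat.prime_three ?_
    refine Nat.eq_of_factorization_eq Nat.card_pos.ne' (by positivity) fun q => ?_
    rw [Nat.factorization_mul (by positivity) (by positivity), Finsupp.add_apply,
      Nat.prime_two.factorization_pow, Nat.prime_three.factorization_pow]
    by_cases h2' : q = 2
    · subst h2'; simp
    by_cases h3' : q = 3
    · subst h3'; simp
    rw [Finsupp.single_eq_of_ne (Ne.symm (Ne.symm h2')), Finsupp.single_eq_of_ne (Ne.symm (Ne.symm h3'))]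
    by_contra hq0
    have hq : q.Prime := by
      by_contra hq
      exact hq0 (by rw [Nat.factorization_eq_zero_of_not_prime _ hq, add_zero])
    have hqd : q ∣ Nat.card H := Nat.dvd_of_factorization_pos (fun h0 => hq0 (by rw [h0, add_zero]))
    exact (hprimes q hq hqd).elim h3' h2'
  haveI := hsol
  -- `O₂(H) = 1`
  have hO2 : Cfsg.pCore 2 H = ⊥ := by
    by_contra hX0
    set X := (Cfsg.pCore 2 H).map H.subtype
    have hX2 : IsPGroup 2 X := (Fitting.pCore_isPGroup 2).map _
    have hXN : H ≤ Subgroup.normalizer (X : Set G) :=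
      PSolvable.le_normalizer_map_of_characteristic Subgroup.le_normalizer _
    have hXS : X ≤ (S : Subgroup G) := by
      have h1 : X ≤ (S.subtype hSH : Subgroup H).map H.subtype :=
        haveI := Fitting.pCore_normal (G := H) 2
        Subgroup.map_mono ((Fitting.pCore_isPGroup 2).le_sylow_of_normal (S.subtype hSH))
      exact h1.trans (by rintro _ ⟨x, hx, rfl⟩; exact hx)
    obtain ⟨⟨x, hx⟩, hx1⟩ := (Cfsg.pCore 2 H).ne_bot_iff_exists_ne_one.mp hX0
    have hXeq := h.eq_of_invariant S hXS hyk (hXN hyH) hfix (Subgroup.mem_map_of_mem H.subtype hx)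
      (fun e => hx1 (Subtype.ext (Subtype.ext e)))
    obtain ⟨s, hs, hne'⟩ := hmS
    refine hne' ?_
    have hmN : m ∈ Subgroup.normalizer ((S : Subgroup G) : Set G) := hXeq ▸ hXN hmH
    have hsD : s ∈ Subgroup.normalizer (D : Set G) :=
      hDN (Subgroup.mem_centralizer_singleton_iff.mpr (h.commute_sylow S hs htS))
    have h1 : m * s * m⁻¹ * s⁻¹ ∈ (S : Subgroup G) :=
      Subgroup.mul_mem _ ((Subgroup.mem_normalizer_iff.mp hmN s).mp hs) (Subgroup.inv_mem _ hs)
    have h2 : m * s * m⁻¹ * s⁻¹ ∈ D := by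
      rw [show m * s * m⁻¹ * s⁻¹ = m * (s * m⁻¹ * s⁻¹) by group]
      exact D.mul_mem hmD ((Subgroup.mem_normalizer_iff.mp hsD _).mp (D.inv_mem hmD))
    have h3 : m * s * m⁻¹ * s⁻¹ = 1 :=
      PSolvable.eq_one_of_mem_of_mem (p := 3) hDp (by
        rw [S.card_eq_multiplicity]
        exact (by norm_num : Nat.Coprime 2 3).pow_left _) h2 h1
    rwa [mul_inv_eq_one, mul_inv_eq_iff_eq_mul] at h3
  haveI hPn := Transfer.pPrimeCore_normal 3 H
  have hO : Cfsg.pPrimeCore 3 H = ⊥ := by
    refine le_bot_iff.mp (hO2 ▸ Fitting.le_pCore hPn ?_)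
    refine IsPGroup.of_card
      (Nat.eq_prime_pow_of_unique_prime_dvd Nat.card_pos.ne' fun {q} hq hqd => ?_)
    rcases hprimes q hq (hqd.trans (Subgroup.card_subgroup_dvd_card _)) with rfl | rfl
    · exact absurd hqd Transfer.not_dvd_card_pPrimeCore
    · rfl
  haveI := Fitting.pCore_normal (G := H) 3
  have hcen := PSolvable.centralizer_pCore_le (p := 3)
    (PSolvable.isPSolvable_of_isSolvable hsol) hO
  have hall : ∀ x : H, (∃ k : ℕ, orderOf (x : G) = 3 ^ k) → x ∈ Cfsg.pCore 3 H := by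
    intro x hx
    obtain ⟨Q, hQ⟩ := (Transfer.isPGroup_zpowers (p := 3) (x := x) (by
      obtain ⟨k, hk⟩ := hx; exact ⟨k, by rw [← hk, Subgroup.orderOf_coe]⟩)).exists_le_sylow
    refine hcen (Subgroup.mem_centralizer_iff.mpr fun r hr => Subtype.ext ?_)
    exact h.commute_pgroup (Q.2.map H.subtype)
      (Subgroup.mem_map_of_mem H.subtype ((Fitting.pCore_isPGroup 3).le_sylow_of_normal Q hr))
      (Subgroup.mem_map_of_mem H.subtype (hQ (Subgroup.mem_zpowers x)))
  have hmy : m * y = y * m := h.commute_pgroup ((Fitting.pCore_isPGroup (G := H) 3).map H.subtype)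
    (Subgroup.mem_map_of_mem H.subtype (hall ⟨m, hmH⟩ hmk))
    (Subgroup.mem_map_of_mem H.subtype (hall ⟨y, hyH⟩ hyk))
  obtain ⟨s, hs, hne'⟩ := hmS
  exact hne' (h.centralizes_of_commute S hyk hyS hfix hmy htS ht1 hm s hs)

end CfsgLib.MixedPrimes
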